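import Cfsg.Agent.Omega.NO3S.TwoMid.TypeN
import Cfsg.Agent.Omega.NO3S.TwoOne.Faith

/-!
# NO-3S, `|V| = 4`, `n = 2`, TYPE N is dead (helper60, bb #16001): the base

* `Fr.le_kq`, `le_kq_pt` : (O);
* `act` : `u ∈ U_a` acts on `W_r` (`a ~ r`) by `x ↦ x` or `x ↦ a x`;
* `Jn V r a b` : `a`, `b` are joined at `r`; `K2 V` : `κ ≥ 2`;
* `Jn.mem_of_fix` : (1.3);
* `Mid.comm_uu` : (5.1), `Mid.cent_uu` : (1.5);
* `zr V r = Z(U_r)`.
-/

set_option autoImplicit false
set_option linter.unusedSectionVars false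

namespace Cfsg.Agent.Omega.NO3S.TypeN

open Subgroup Cfsg Cfsg.Agent.ZN Cfsg.Agent.MinSimple.Geo Cfsg.Agent.Omega.CaseL Cfsg.Agent.Omega.NO3S.TwoOne
  Cfsg.Agent.Omega.NO3S.Pt Cfsg.Agent.Omega.NO3S.TwoMid
open Cfsg.Agent.ZN.Block (conj_mem_of_normalizer conj_mem_of_normalizer' le_normalizer_of_forall
  mem_normalizer_of)

universe u

variable {G : Type u} [Group G] {T V : Subgroup G} {z : G}

/-! ### (O) -/

/-- `C_G(z)` normal subgroups which are 2-groups modulo `K_z` are in `K_z`. -/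
theorem le_kq [Finite G] (h : Fr T V z) {R : Subgroup G} (hR : R ≤ centralizer ({z} : Set G))
    (hn : centralizer ({z} : Set G) ≤ normalizer (R : Set G)) (h2 : ∀ r ∈ R, ∃ n : ℕ, r ^ 2 ^ n ∈ kq V z) :
    R ≤ kq V z := by
  have hfact : Fact (Nat.Prime 2) := ⟨Nat.prime_two⟩
  have hz := h.ln.z_mem
  have hz1 := h.ln.z_ne
  -- `N(V) ∩ C(z)` covers `R`
  have hodd := not_dvd_relIndex_of_normal h.ln.T_le h.ln.two h.ln.T_syl hR hn
  have hT : T ⊓ R ≤ normalizer (V : Set G) ⊓ R := inf_le_inf_right _ h.ln.T_norm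
  have hodd' : ¬ 2 ∣ (normalizer (V : Set G) ⊓ R).relIndex R := fun hd =>
    hodd (by
      rw [← inf_relIndex_right T R]
      exact hd.trans (relIndex_dvd_of_le_left R hT))
  have hK : kq V z ⊓ R ≤ normalizer (V : Set G) ⊓ R := inf_le_inf_right _ (h.kq_le_normalizer hz hz1)
  have hnorm : ((kq V z).subgroupOf R).Normal :=
    normal_subgroupOf_of_le_normalizer (hR.trans (centralizer_le_normalizer_kq V z))
  have h3 : IsPGroup 2 (R ⧸ (kq V z).subgroupOf R) := by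
    intro x
    obtain ⟨r, rfl⟩ := QuotientGroup.mk_surjective x
    obtain ⟨n, hn'⟩ := h2 r r.2
    refine ⟨n, ?_⟩
    rw [← QuotientGroup.mk_pow, QuotientGroup.eq_one_iff]
    exact mem_subgroupOf.mpr hn'
  obtain ⟨m, hm⟩ := IsPGroup.iff_card.mp h3
  have h4 : (kq V z).relIndex R = 2 ^ m := hm
  have h5 : (normalizer (V : Set G) ⊓ R).relIndex R ∣ 2 ^ m := by
    rw [← h4, ← inf_relIndex_right (kq V z) R]
    exact relIndex_dvd_of_le_left R hK
  have h6 : R ≤ normalizer (V : Set G) := by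
    obtain ⟨k, -, hk⟩ := (Nat.dvd_prime_pow Nat.prime_two).mp h5
    have h7 : (normalizer (V : Set G) ⊓ R).relIndex R = 1 := by
      rcases Nat.eq_zero_or_pos k with e | e
      · rw [hk, e, pow_zero]
      · exact absurd (hk ▸ dvd_pow_self 2 (by omega)) hodd'
    exact (relIndex_eq_one.mp h7).trans inf_le_left
  have hc : ws V z ≤ centralizer ({z} : Set G) := (h.ln.ws_le_o2).trans (o2_le _)
  have h8 : ∀ r ∈ R, ∀ w ∈ ws V z, r * w * r⁻¹ * w⁻¹ ∈ zpowers z := by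
    intro r hr
    let A : Subgroup G :=
      { carrier := {w | ∀ r ∈ R, r * w * r⁻¹ * w⁻¹ ∈ zpowers z ∧ w * z = z * w}
        mul_mem' := by
          intro a b ha hb r hr
          have haz := (ha r hr).2
          have hbz := (hb r hr).2
          refine ⟨?_, mul_comm_of haz hbz⟩
          have e : r * (a * b) * r⁻¹ * (a * b)⁻¹ =
              (r * a * r⁻¹ * a⁻¹) * (a * (r * b * r⁻¹ * b⁻¹) * a⁻¹) := by group
          rw [e, conj_zpowers (mem_centralizer_singleton_iff.mpr haz) (hb r hr).1]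
          exact mul_mem (ha r hr).1 (hb r hr).1
        one_mem' := fun r hr => ⟨by simp, by simp⟩
        inv_mem' := by
          intro a ha r hr
          have haz := (ha r hr).2
          refine ⟨?_, inv_comm_of haz⟩
          have e : r * a⁻¹ * r⁻¹ * a⁻¹⁻¹ = a⁻¹ * (r * a * r⁻¹ * a⁻¹)⁻¹ * a⁻¹⁻¹ := by group
          rw [e, conj_zpowers (inv_mem (mem_centralizer_singleton_iff.mpr haz)) (inv_mem (ha r hr).1)]
          exact inv_mem (ha r hr).1 }
    have hA : ws V z ≤ A := by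
      refine ws_le fun L hL => ?_
      obtain ⟨c, hc', rfl⟩ := h.ln.exists_of_mem_lines hL
      intro x hx r hr
      have hx' := mem_of_cj hx
      have hr' := conj_mem_of_normalizer' hn hc' hr
      refine ⟨?_, mem_centralizer_singleton_iff.mp (hc (le_ws hL hx))⟩
      have h9 : c⁻¹ * r * c * (c⁻¹ * x * c) * (c⁻¹ * r * c)⁻¹ * (c⁻¹ * x * c)⁻¹ ∈ zpowers z := by
        rcases h.ln.conj_cases hz hx' hz1 (mem_centralizer_singleton_iff.mp (hR hr')) (h6 hr') with e | e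
        · rw [e, mul_inv_cancel]; exact one_mem _
        · rw [e, mul_inv_cancel_right]; exact mem_zpowers z
      have e : r * x * r⁻¹ * x⁻¹ =
          c * (c⁻¹ * r * c * (c⁻¹ * x * c) * (c⁻¹ * r * c)⁻¹ * (c⁻¹ * x * c)⁻¹) * c⁻¹ := by group
      rw [e, conj_zpowers hc' h9]
      exact h9
    exact fun w hw => (hA hw r hr).1
  intro r hr
  refine ⟨hR hr, h8 r hr, fun w hw => ?_⟩
  have := h8 r⁻¹ (inv_mem hr) w hw
  rwa [inv_inv] at this

/-- (O) at every point -/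
theorem le_kq_pt [Finite G] (h : Fr T V z) {r : G} (hr : Col V r r) {R : Subgroup G}
    (hR : R ≤ centralizer ({r} : Set G)) (hn : centralizer ({r} : Set G) ≤ normalizer (R : Set G))
    (h2 : ∀ x ∈ R, ∃ n : ℕ, x ^ 2 ^ n ∈ kq V r) : R ≤ kq V r := by
  obtain ⟨g, k, -, -, -, hf⟩ := h.exists_flag hr
  have := le_kq hf (R := R) hR hn fun x hx => by
    obtain ⟨n, hn⟩ := h2 x hx
    exact ⟨n, by rwa [kq_cj]⟩
  rwa [kq_cj] at this

/-! ### joined points -/

/-- `a`, `b` are joined at `r`: `a ~ r ~ b` and `U_a` moves `b` -/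
def Jn (V : Subgroup G) (r a b : G) : Prop := Col V a r ∧ Col V r b ∧ ∃ u ∈ uu V a, u * b * u⁻¹ = a * b

/-- `κ ≥ 2` -/
def K2 (V : Subgroup G) : Prop := ∃ p r, Col V p r ∧ ∃ u ∈ uu V p, ∃ u' ∈ uu V p, ∃ x ∈ ws V r, ∃ x' ∈ ws V r,
  u * x * u⁻¹ ≠ x ∧ u' * x * u'⁻¹ = x ∧ u' * x' * u'⁻¹ ≠ x'

/-- `Z_r = Z(U_r)` -/
def zr (V : Subgroup G) (r : G) : Subgroup G := uu V r ⊓ centralizer (uu V r : Set G)

theorem Jn.conj {r a b : G} (h : Jn V r a b) (g : G) : Jn V (g * r * g⁻¹) (g * a * g⁻¹) (g * b * g⁻¹) := by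
  obtain ⟨h1, h2, u, hu, e⟩ := h
  refine ⟨h1.conj g, h2.conj g, g * u * g⁻¹, ?_, ?_⟩
  · rw [← cj_uu]; exact conj_mem_cj hu
  · calc g * u * g⁻¹ * (g * b * g⁻¹) * (g * u * g⁻¹)⁻¹ = g * (u * b * u⁻¹) * g⁻¹ := by group
      _ = g * a * g⁻¹ * (g * b * g⁻¹) := by rw [e]; group

theorem Jn.of_conj {r a b : G} {g : G} (h : Jn V (g * r * g⁻¹) (g * a * g⁻¹) (g * b * g⁻¹)) : Jn V r a b := by
  have := h.conj g⁻¹
  have e : ∀ x : G, g⁻¹ * (g * x * g⁻¹) * g⁻¹⁻¹ = x := fun x => by group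
  rwa [e, e, e] at this

section

variable {a b c p r : G}

theorem ws_le_uu' (hra : Col V r a) : ws V a ≤ uu V r := ws_le_uu hra

/-- `u ∈ U_a` acts on `W_r`, `a ~ r`, by `x ↦ x` or `x ↦ a x`. -/
theorem act [Finite G] (h : TyN T V z) (har : Col V a r) {u x : G} (hu : u ∈ uu V a) (hx : x ∈ ws V r) :
    u * x * u⁻¹ = x ∨ u * x * u⁻¹ = a * x := by
  have h1 := h.uu_comm hu (ws_le_uu har hx)
  rcases (mem_zpowers_iff_of_mul_self (h.fr.pt_sq har.left)).mp h1 with e | e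
  · left
    calc u * x * u⁻¹ = (u * x * u⁻¹ * x⁻¹) * x := by group
      _ = x := by rw [e, one_mul]
  · right
    calc u * x * u⁻¹ = (u * x * u⁻¹ * x⁻¹) * x := by group
      _ = a * x := by rw [e]

/-- if some element of `U_a` moves `b`, then they are joined -/
theorem Jn.of_ne [Finite G] (h : TyN T V z) (har : Col V a r) (hrb : Col V r b) {u : G} (hu : u ∈ uu V a)
    (hne : u * b * u⁻¹ ≠ b) : Jn V r a b :=
  ⟨har, hrb, u, hu, (act h har hu (h.fr.mem_ws_of_col hrb)).resolve_left hne⟩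

theorem Jn.exists_ne (h : Jn V r a b) : ∃ u ∈ uu V a, u * b * u⁻¹ ≠ b := by
  obtain ⟨h1, h2, u, hu, e⟩ := h
  refine ⟨u, hu, fun e' => h1.ne_one ?_⟩
  rw [e] at e'
  simpa using e'

/-- not joined: `U_a` centralises `b` -/
theorem cent_of_not_jn [Finite G] (h : TyN T V z) (har : Col V a r) (hrb : Col V r b) (hn : ¬ Jn V r a b) {u : G}
    (hu : u ∈ uu V a) : u * b = b * u := by
  by_contra hne
  exact hn (Jn.of_ne h har hrb hu fun e => hne (comm_of_conj_eq e))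

/-- if `U_a` moves `x`, then some `y ∈ W_c`, `c ~ a`, moves `x` -/
theorem exists_ws (V : Subgroup G) {a x : G} (h : ∃ u ∈ uu V a, u * x * u⁻¹ ≠ x) :
    ∃ c, Col V a c ∧ ∃ w ∈ ws V c, w * x * w⁻¹ ≠ x := by
  by_contra hcon
  push Not at hcon
  obtain ⟨u, hu, hne⟩ := h
  have h1 : uu V a ≤ centralizer ({x} : Set G) := by
    refine uu_le fun c hc w hw => ?_
    rw [mem_centralizer_singleton_iff]
    exact comm_of_conj_eq (hcon c hc w hw)
  exact hne (conj_eq_of_comm (mem_centralizer_singleton_iff.mp (h1 hu)))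

theorem Jn.ne_left [Finite G] (h : TyN T V z) (hj : Jn V r a b) : a ≠ r := by
  rintro rfl
  obtain ⟨u, hu, hne⟩ := hj.exists_ne
  refine hne (conj_eq_of_comm ?_)
  have := h.toTwo.uu_le_cent a hu
  exact (mem_centralizer_iff.mp this b (h.fr.mem_ws_of_col hj.2.1)).symm

theorem Jn.ne_right [Finite G] (h : TyN T V z) (hj : Jn V r a b) : b ≠ r := by
  rintro rfl
  obtain ⟨u, hu, hne⟩ := hj.exists_ne
  refine hne (conj_eq_of_comm ?_)
  have := h.toTwo.uu_le_cent a hu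
  exact (mem_centralizer_iff.mp this b (h.fr.mem_ws_of_col hj.1)).symm

theorem Jn.ne [Finite G] (h : TyN T V z) (hj : Jn V r a b) : a ≠ b := by
  rintro rfl
  obtain ⟨u, hu, hne⟩ := hj.exists_ne
  refine hne (conj_eq_of_comm ?_)
  have := h.toTwo.uu_le_cent a hu
  exact (mem_centralizer_iff.mp this a (h.fr.mem_ws_self hj.1.left)).symm

/-- `u ∈ U_a` commutes with all elements of `W_a` -/
theorem uu_comm_ws (h : TyN T V z) {u x : G} (hu : u ∈ uu V a) (hx : x ∈ ws V a) : u * x = x * u :=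
  (mem_centralizer_iff.mp (h.toTwo.uu_le_cent a hu) x hx).symm

/-- `b ∉ W_a` if `a`, `b` are joined -/
theorem Jn.not_mem [Finite G] (h : TyN T V z) (hj : Jn V r a b) : b ∉ ws V a := by
  intro hb
  obtain ⟨u, hu, hne⟩ := hj.exists_ne
  exact hne (conj_eq_of_comm (uu_comm_ws h hu hb))

theorem sq_pt (h : TyN T V z) {x y : G} (hx : Col V x y) : x * x = 1 := h.fr.pt_sq hx.left

theorem inv_pt (h : TyN T V z) {x y : G} (hx : Col V x y) : x⁻¹ = x := inv_eq_self (sq_pt h hx)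

theorem comm_ws (h : TyN T V z) {r x y : G} (hr : Col V r r) (hx : x ∈ ws V r) (hy : y ∈ ws V r) :
    x * y = y * x := h.fr.ws_comm hr x hx y hy

theorem sq_ws (h : TyN T V z) {r x : G} (hr : Col V r r) (hx : x ∈ ws V r) : x * x = 1 := h.fr.ws_sq hr x hx

/-- (1.3): an element of `W_a` centralised by some `w ∈ C(r)` with `a^w = a b` lies in `W_b`. -/
theorem Jn.mem_of_fix [Finite G] (h : TyN T V z) (hj : Jn V r a b) {w x : G} (hw : w * a * w⁻¹ = a * b)
    (hx : x ∈ ws V a) (hwx : w * x = x * w) : x ∈ ws V b := by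
  obtain ⟨h1, h2, v, hv, hvb⟩ := hj
  have h3 := conj_mem_ws w hx
  rw [hw, conj_eq_of_comm hwx, ← hvb] at h3
  have h4 := conj_mem_ws v⁻¹ h3
  have e : v⁻¹ * (v * b * v⁻¹) * v⁻¹⁻¹ = b := by group
  rw [e] at h4
  have h5 := uu_comm_ws h (inv_mem hv) hx
  rwa [conj_eq_of_comm h5] at h4

/-- if `a`, `b` are joined at `r`, then `a b` is a point collinear with `r` -/
theorem Jn.col_mul [Finite G] (h : TyN T V z) (hj : Jn V r a b) : Col V r (a * b) := by
  obtain ⟨h1, h2, v, hv, hvb⟩ := hj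
  have h3 := h2.conj v
  have h4 : v * r = r * v := uu_comm_ws h hv (h.fr.mem_ws_of_col h1)
  rwa [hvb, conj_eq_of_comm h4] at h3

/-! ### critical pairs -/

/-- `U_r` acts on `W_p`; for critical `(c, r)` with middle `p` it normalises `⟨c, r⟩` -/
theorem act_crit [Finite G] (h : TyN T V z) (hrp : Col V r p) (hpc : Col V p c) {u : G} (hu : u ∈ uu V r) :
    u * c * u⁻¹ = c ∨ u * c * u⁻¹ = r * c := act h hrp hu (h.fr.mem_ws_of_col hpc)

theorem ws_norm_uu (h : TyN T V z) (hcp : Col V c p) (hpr : Col V p r) :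
    ws V c ≤ normalizer ((uu V r : Subgroup G) : Set G) :=
  ((h.toTwo.ws_le_cent hcp).trans (h.toTwo.cent_ws_le hpr)).trans (centralizer_le_normalizer_uu V r)

theorem comm_mem_uu (h : TyN T V z) (hcp : Col V c p) (hpr : Col V p r) {u w : G} (hu : u ∈ uu V r)
    (hw : w ∈ ws V c) : u * w * u⁻¹ * w⁻¹ ∈ uu V r := by
  have e : u * w * u⁻¹ * w⁻¹ = u * (w * u⁻¹ * w⁻¹) := by group
  rw [e]
  exact (uu V r).mul_mem hu (conj_mem_of_normalizer (ws_norm_uu h hcp hpr) hw ((uu V r).inv_mem hu))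

theorem comm_mem_ws {V : Subgroup G} {c u w : G} (huc : u * c = c * u) (hw : w ∈ ws V c) :
    u * w * u⁻¹ * w⁻¹ ∈ ws V c :=
  mul_mem (conj_mem_of_normalizer (centralizer_le_normalizer_ws V c)
    (mem_centralizer_singleton_iff.mpr huc) hw) (inv_mem hw)

/-- (5.1) an element of `W_c ∩ U_r` commutes with `C_{U_r}(c)`, `(c, r)` critical -/
theorem comm_uu [Finite G] (h : TyN T V z) (hm : Mid T V z c p r) {x u : G} (hx : x ∈ ws V c) (hx' : x ∈ uu V r)
    (hu : u ∈ uu V r) (huc : u * c = c * u) : u * x = x * u := by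
  have h1 : u * x * u⁻¹ * x⁻¹ ∈ ws V c := comm_mem_ws huc hx
  have h2 := h.uu_comm hu hx'
  have h3 := hm.symm.eq_one_of_mem h2 h1
  calc u * x = (u * x * u⁻¹ * x⁻¹) * (x * u) := by group
    _ = x * u := by rw [h3, one_mul]

/-- (1.5): `W_c` centralises `U_r / Z(U_r)` if `(c, r)` is critical and not joined -/
theorem cent_uu [Finite G] (h : TyN T V z) (hm : Mid T V z c p r) (hn : ¬ Jn V p r c) {u w : G}
    (hu : u ∈ uu V r) (hw : w ∈ ws V c) : u * w * u⁻¹ * w⁻¹ ∈ zr V r := by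
  have hc : ∀ u ∈ uu V r, u * c = c * u := fun u hu => cent_of_not_jn h hm.rq.symm hm.pr.symm hn hu
  have h1 : u * w * u⁻¹ * w⁻¹ ∈ uu V r := comm_mem_uu h hm.pr hm.rq hu hw
  have h2 : u * w * u⁻¹ * w⁻¹ ∈ ws V c := comm_mem_ws (hc u hu) hw
  refine mem_inf.mpr ⟨h1, ?_⟩
  rw [mem_centralizer_iff]
  intro u' hu'
  exact comm_uu h hm h2 h1 hu' (hc u' hu')

/-- `W_c`, `c ~ p ~ r`, moving an element of `W_r` : `(c, r)` is critical -/
theorem mid_of_move (h : TyN T V z) (hcp : Col V c p) (hpr : Col V p r) {w x : G} (hw : w ∈ ws V c)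
    (hx : x ∈ ws V r) (hne : w * x * w⁻¹ ≠ x) : Mid T V z c p r :=
  { h.toTwo with pr := hcp, rq := hpr, ne := fun e => hne (conj_eq_of_comm (e w hw x hx)) }

/-- the middle of a critical pair is unique -/
theorem middle [Finite G] (h : TyN T V z) {q : G} (hm : Mid T V z a p b) (hm' : Mid T V z a q b) : p = q := by
  by_contra hne
  apply hm.ne
  intro x hx y hy
  have h1 := h.n a p b hm.pr hm.rq x hx y hy
  have h2 := h.n a q b hm'.pr hm'.rq x hx y hy
  have h3 : x * y * x⁻¹ * y⁻¹ = 1 := by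
    rcases (mem_zpowers_iff_of_mul_self (sq_pt h hm.rq)).mp h1 with e | e
    · exact e
    rcases (mem_zpowers_iff_of_mul_self (sq_pt h hm'.rq)).mp h2 with e' | e'
    · exact e'
    · exact absurd (e.symm.trans e') hne
  calc x * y = (x * y * x⁻¹ * y⁻¹) * (y * x) := by group
    _ = y * x := by rw [h3, one_mul]

end

end Cfsg.Agent.Omega.NO3S.TypeN
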