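import Mathlib

/-!
# Elementary McLaughlin (helper60 #16001, (1.2), (3.1)-(3.4)), abstract form

`Om` : a set of involutions ("points `a ~ r`"), `Ps a` : the set of functionals (functions to `ZMod 2`) of the
transvections with centre `a`.

* `Sys.symm` : joined is symmetric;
* `Sys.trans` : if `|Ps a| > 2`, then joined is transitive.
-/

set_option autoImplicit false

namespace Cfsg.Agent.Omega.NO3S.TypeN

universe u

variable {G : Type u} [Group G]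

theorem zmod_two_cases (x : ZMod 2) : x = 0 ∨ x = 1 := by
  revert x; decide

theorem zmod_two_add (x : ZMod 2) : x + x = 0 := by
  revert x; decide

/-- a system of transvections with centres in `Om` and functionals in `Ps` -/
structure Sys (Om : Set G) (r : G) (Ps : G → Set (G → ZMod 2)) (K : ℕ) : Prop where
  /-- the centres are involutions -/
  sq : ∀ a ∈ Om, a * a = 1
  zero : ∀ a ∈ Om, (0 : G → ZMod 2) ∈ Ps a
  addm : ∀ a ∈ Om, ∀ φ ∈ Ps a, ∀ ψ ∈ Ps a, φ + ψ ∈ Ps a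
  fin : ∀ a ∈ Om, (Ps a).Finite
  card : ∀ a ∈ Om, (Ps a).ncard = K
  self : ∀ a ∈ Om, ∀ φ ∈ Ps a, φ a = 0
  add : ∀ a ∈ Om, ∀ φ ∈ Ps a, ∀ b ∈ Om, ∀ c ∈ Om, φ (b * c) = φ b + φ c
  mul_mem : ∀ a ∈ Om, ∀ b ∈ Om, ∀ φ ∈ Ps a, φ b = 1 → a * b ∈ Om
  one : ∀ a ∈ Om, ∀ b ∈ Om, ∀ φ ∈ Ps a, φ b = 1 → ∀ ψ ∈ Ps b, ψ a = 0 → φ + ψ ∈ Ps a
  two : ∀ a ∈ Om, ∀ b ∈ Om, ∀ φ ∈ Ps a, φ b = 0 → ∀ ψ ∈ Ps b, ψ a = 1 → φ ∈ Ps (a * b)
  span : ∀ a ∈ Om, ∀ φ ∈ Ps a, φ ≠ 0 → ∃ d ∈ Om, φ d = 1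
  /-- `(O)` -/
  o : ∀ a ∈ Om, ∀ c ∈ Om, a ≠ c → c ≠ a * r → Ps a = Ps c → ∃ x ∈ Om, ∃ ψ ∈ Ps x, ψ a ≠ ψ c

namespace Sys

variable {Om : Set G} {r : G} {Ps : G → Set (G → ZMod 2)} {K : ℕ}

/-- `a` moves `b` -/
def Joined (Ps : G → Set (G → ZMod 2)) (a b : G) : Prop := ∃ φ ∈ Ps a, φ b = 1

theorem eq_of_subset (h : Sys Om r Ps K) {a b : G} (ha : a ∈ Om) (hb : b ∈ Om) (hs : Ps a ⊆ Ps b) :
    Ps a = Ps b :=
  Set.eq_of_subset_of_ncard_le hs (by rw [h.card a ha, h.card b hb]) (h.fin b hb)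

/-- **(1.2)** -/
theorem symm (h : Sys Om r Ps K) {a b : G} (ha : a ∈ Om) (hb : b ∈ Om) (hab : Joined Ps a b) :
    Joined Ps b a := by
  by_contra hn
  obtain ⟨φ, hφ, hφb⟩ := hab
  have h1 : Ps b ⊆ Ps a := by
    intro ψ hψ
    have h2 : ψ a = 0 := by
      rcases zmod_two_cases (ψ a) with e | e
      · exact e
      · exact absurd ⟨ψ, hψ, e⟩ hn
    have h3 := h.addm a ha _ hφ _ (h.one a ha b hb φ hφ hφb ψ hψ h2)
    have h4 : φ + (φ + ψ) = ψ := by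
      funext x
      show φ x + (φ x + ψ x) = ψ x
      rw [← add_assoc, zmod_two_add, zero_add]
    rwa [h4] at h3
  have h2 := h.eq_of_subset hb ha h1
  rw [← h2] at hφ
  rw [h.self b hb φ hφ] at hφb
  exact absurd hφb (by decide)

theorem joined_mul (h : Sys Om r Ps K) {a b : G} (ha : a ∈ Om) (hb : b ∈ Om) (hab : Joined Ps a b) :
    a * b ∈ Om ∧ Joined Ps a (a * b) := by
  obtain ⟨φ, hφ, hφb⟩ := hab
  refine ⟨h.mul_mem a ha b hb φ hφ hφb, φ, hφ, ?_⟩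
  rw [h.add a ha φ hφ a ha b hb, h.self a ha φ hφ, zero_add, hφb]

/-- **(3.1)**: `Ps a ∩ b^⊥ = Ps a ∩ Ps b` -/
theorem mem_iff (h : Sys Om r Ps K) {a b : G} (ha : a ∈ Om) (hb : b ∈ Om) (hab : Joined Ps a b)
    {φ : G → ZMod 2} (hφ : φ ∈ Ps a) : φ b = 0 ↔ φ ∈ Ps b := by
  refine ⟨fun h0 => ?_, fun h1 => h.self b hb φ h1⟩
  obtain ⟨hm, hj⟩ := h.joined_mul ha hb hab
  obtain ⟨ψ, hψ, hψ1⟩ := h.symm ha hm hj
  have h2 : φ (a * b) = 0 := by
    rw [h.add a ha φ hφ a ha b hb, h.self a ha φ hφ, h0, zero_add]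
  have h3 := h.two a ha (a * b) hm φ hφ h2 ψ hψ hψ1
  rwa [← mul_assoc, h.sq a ha, one_mul] at h3

/-- **(3.2)** -/
theorem eval_eq (h : Sys Om r Ps K) {a b c : G} (ha : a ∈ Om) (hb : b ∈ Om) (_hc : c ∈ Om)
    (hab : Joined Ps b a) (hbc : Joined Ps b c) (hac : ¬ Joined Ps a c) {ψ : G → ZMod 2} (hψ : ψ ∈ Ps b) :
    ψ a = ψ c := by
  have key : ∀ ψ ∈ Ps b, ψ a = 0 → ψ c = 0 := by
    intro ψ hψ h0
    have h1 : ψ ∈ Ps a := (h.mem_iff hb ha hab hψ).mp h0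
    rcases zmod_two_cases (ψ c) with e | e
    · exact e
    · exact absurd ⟨ψ, h1, e⟩ hac
  rcases zmod_two_cases (ψ a) with e | e
  · rw [e, key ψ hψ e]
  rcases zmod_two_cases (ψ c) with e' | e'
  · exfalso
    obtain ⟨ψ', hψ', h1⟩ := hbc
    have h2 : ψ' a = 1 := by
      rcases zmod_two_cases (ψ' a) with e2 | e2
      · rw [key ψ' hψ' e2] at h1
        exact absurd h1 (by decide)
      · exact e2
    have h3 := key (ψ + ψ') (h.addm b hb _ hψ _ hψ') (by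
      show ψ a + ψ' a = 0
      rw [e, h2]; decide)
    have h4 : ψ c + ψ' c = 0 := h3
    rw [e', h1] at h4
    exact absurd h4 (by decide)
  · rw [e, e']

/-- a nonzero functional of `Ps b` which is zero on `a` -/
theorem exists_ne (h : Sys Om r Ps K) (hK : 2 < K) {a b : G} (hb : b ∈ Om) :
    ∃ θ ∈ Ps b, θ ≠ 0 ∧ θ a = 0 := by
  by_contra hn
  push Not at hn
  have hinj : Set.InjOn (fun φ : G → ZMod 2 => φ a) (Ps b) := by
    intro φ hφ ψ hψ he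
    have he' : φ a = ψ a := he
    by_contra hne
    refine hn (φ + ψ) (h.addm b hb _ hφ _ hψ) (fun h0 => hne ?_) ?_
    · funext x
      have hx : φ x + ψ x = 0 := congrFun h0 x
      calc φ x = φ x + (ψ x + ψ x) := by rw [zmod_two_add, add_zero]
        _ = (φ x + ψ x) + ψ x := by rw [add_assoc]
        _ = ψ x := by rw [hx, zero_add]
    · show φ a + ψ a = 0
      rw [he', zmod_two_add]
  have h1 := hinj.ncard_image
  have h2 : ((fun φ : G → ZMod 2 => φ a) '' Ps b).ncard ≤ (Set.univ : Set (ZMod 2)).ncard :=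
    Set.ncard_le_ncard (Set.subset_univ _) (Set.toFinite _)
  rw [h1, h.card b hb, Set.ncard_univ, Nat.card_zmod] at h2
  omega

/-- **(3.3)** -/
theorem ps_subset (h : Sys Om r Ps K) (hK : 2 < K) {a b c : G} (ha : a ∈ Om) (hb : b ∈ Om) (hc : c ∈ Om)
    (hab : Joined Ps a b) (hbc : Joined Ps b c) (hac : ¬ Joined Ps a c) : Ps a ⊆ Ps c := by
  have hba := h.symm ha hb hab
  obtain ⟨θ, hθ, hne, h0⟩ := h.exists_ne (a := a) hK hb
  have hθa : θ ∈ Ps a := (h.mem_iff hb ha hba hθ).mp h0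
  have hθc : θ ∈ Ps c := (h.mem_iff hb hc hbc hθ).mp (by rw [← h.eval_eq ha hb hc hba hbc hac hθ, h0])
  obtain ⟨d, hd, hd1⟩ := h.span b hb θ hθ hne
  have had : Joined Ps a d := ⟨θ, hθa, hd1⟩
  have hcd : Joined Ps c d := ⟨θ, hθc, hd1⟩
  have hda := h.symm ha hd had
  have hdc := h.symm hc hd hcd
  have key : ∀ φ ∈ Ps a, φ d = 0 → φ ∈ Ps c := by
    intro φ hφ h1
    have h2 : φ ∈ Ps d := (h.mem_iff ha hd had hφ).mp h1
    refine (h.mem_iff hd hc hdc h2).mp ?_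
    rw [← h.eval_eq ha hd hc hda hdc hac h2]
    exact h.self a ha φ hφ
  intro φ hφ
  rcases zmod_two_cases (φ d) with e | e
  · exact key φ hφ e
  have h1 := key (φ + θ) (h.addm a ha _ hφ _ hθa) (by
    show φ d + θ d = 0
    rw [e, hd1]; decide)
  have h2 := h.addm c hc _ h1 _ hθc
  have h3 : φ + θ + θ = φ := by
    funext x
    show φ x + θ x + θ x = φ x
    rw [add_assoc, zmod_two_add, add_zero]
  rwa [h3] at h2

/-- **(3.4)**: joined is transitive -/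
theorem trans (h : Sys Om r Ps K) (hK : 2 < K) {a b c : G} (ha : a ∈ Om) (hb : b ∈ Om) (hc : c ∈ Om)
    (hab : Joined Ps a b) (hbc : Joined Ps b c) (hne : c ≠ a) (hne' : c ≠ a * r) : Joined Ps a c := by
  by_contra hac
  have heq : Ps a = Ps c := h.eq_of_subset ha hc (h.ps_subset hK ha hb hc hab hbc hac)
  obtain ⟨x, hx, ψ, hψ, hψn⟩ := h.o a ha c hc (Ne.symm hne) hne' heq
  by_cases hxa : Joined Ps x a
  · have hax := h.symm hx ha hxa
    have hcx : Joined Ps c x := by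
      obtain ⟨φ, hφ, h1⟩ := hax
      exact ⟨φ, heq ▸ hφ, h1⟩
    exact hψn (h.eval_eq ha hx hc hxa (h.symm hc hx hcx) hac hψ)
  · by_cases hxc : Joined Ps x c
    · obtain ⟨φ, hφ, h1⟩ := h.symm hx hc hxc
      exact hxa (h.symm ha hx ⟨φ, heq ▸ hφ, h1⟩)
    · apply hψn
      rcases zmod_two_cases (ψ a) with e | e
      · rcases zmod_two_cases (ψ c) with e' | e'
        · rw [e, e']
        · exact absurd ⟨ψ, hψ, e'⟩ hxc
      · exact absurd ⟨ψ, hψ, e⟩ hxa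

end Sys

end Cfsg.Agent.Omega.NO3S.TypeN
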