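import Cfsg.Agent.Omega.NO3S.TypeN.KapOneB

/-!
# NO-3S, `|V| = 4`, `n = 2`, TYPE N, `κ = 1` is impossible (helper60, bb #16001, section 2): (2.4), (2.5)

* `KO.three`: some point `r` has three pairwise unconnected points;
* `KO.card_ge`: `2 be³ ≤ |W_r|`; `KO.relIndex_le` (2.4); `KO.card_ii_le` (2.5);
* `false_of_kap_one`.
-/

set_option autoImplicit false
set_option linter.unusedSectionVars false

namespace Cfsg.Agent.Omega.NO3S.TypeN

open Subgroup Cfsg Cfsg.Agent.ZN Cfsg.Agent.MinSimple.Geo Cfsg.Agent.Omega.CaseL Cfsg.Agent.Omega.NO3S.TwoOne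
  Cfsg.Agent.Omega.NO3S.Pt Cfsg.Agent.Omega.NO3S.TwoMid
open Cfsg.Agent.ZN.Block (conj_mem_of_normalizer conj_mem_of_normalizer' le_normalizer_of_forall
  mem_normalizer_of)

universe u

variable {G : Type u} [Group G]

/-! ### counting -/

/-- a map `f` of `A` to `P / D` with fibres in the cosets of `B` -/
theorem relIndex_le_of_map [Finite G] {A B P D : Subgroup G} (f : G → G) (hf : ∀ y ∈ A, f y ∈ P)
    (h : ∀ y ∈ A, ∀ y' ∈ A, (f y)⁻¹ * f y' ∈ D → y⁻¹ * y' ∈ B) : B.relIndex A ≤ D.relIndex P := by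
  let F : (A ⧸ B.subgroupOf A) → (P ⧸ D.subgroupOf P) := fun q =>
    QuotientGroup.mk (⟨f (q.out : A), hf _ (q.out : A).2⟩ : P)
  have hF : Function.Injective F := by
    intro q q' e
    have h1 := QuotientGroup.eq.mp e
    rw [mem_subgroupOf] at h1
    have h2 := h _ (q.out : A).2 _ (q'.out : A).2 h1
    rw [← QuotientGroup.out_eq' q, ← QuotientGroup.out_eq' q']
    refine QuotientGroup.eq.mpr ?_
    rw [mem_subgroupOf]
    exact h2
  exact Nat.card_le_card_of_injective F hF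

/-- `|W : B| = |A : A ∩ B|` if `W = A B`, `W` abelian -/
theorem relIndex_eq_of_sup [Finite G] {A B W : Subgroup G} (hA : A ≤ W) (hab : ∀ x ∈ W, ∀ y ∈ W, x * y = y * x)
    (hB : B ≤ W) (hW : W ≤ A ⊔ B) : B.relIndex W ≤ B.relIndex A := by
  let S : Subgroup G :=
    { carrier := {x | ∃ a ∈ A, ∃ b ∈ B, x = a * b}
      mul_mem' := by
        rintro _ _ ⟨a, ha, b, hb, rfl⟩ ⟨a', ha', b', hb', rfl⟩
        refine ⟨a * a', mul_mem ha ha', b * b', mul_mem hb hb', ?_⟩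
        calc a * b * (a' * b') = a * (b * a') * b' := by group
          _ = a * (a' * b) * b' := by rw [hab b (hB hb) a' (hA ha')]
          _ = a * a' * (b * b') := by group
      one_mem' := ⟨1, one_mem _, 1, one_mem _, by simp⟩
      inv_mem' := by
        rintro _ ⟨a, ha, b, hb, rfl⟩
        refine ⟨a⁻¹, inv_mem ha, b⁻¹, inv_mem hb, ?_⟩
        rw [mul_inv_rev, hab _ (hB (inv_mem hb)) _ (hA (inv_mem ha))] }
  have hS : W ≤ S := hW.trans (sup_le (fun a ha => ⟨a, ha, 1, one_mem _, by simp⟩)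
    fun b hb => ⟨1, one_mem _, b, hb, by simp⟩)
  have hch : ∀ x : G, ∃ a : G, x ∈ W → a ∈ A ∧ ∃ b ∈ B, x = a * b := by
    intro x
    by_cases hx : x ∈ W
    · obtain ⟨a, ha, b, hb, e⟩ := hS hx
      exact ⟨a, fun _ => ⟨ha, b, hb, e⟩⟩
    · exact ⟨1, fun h => absurd h hx⟩
  choose f hf using hch
  refine relIndex_le_of_map f (fun y hy => (hf y hy).1) fun y hy y' hy' hd => ?_
  obtain ⟨ha, b, hb, e⟩ := hf y hy
  obtain ⟨ha', b', hb', e'⟩ := hf y' hy'
  have e1 : y⁻¹ * y' = (f y)⁻¹ * f y' * (b⁻¹ * b') := by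
    calc y⁻¹ * y' = (f y * b)⁻¹ * (f y' * b') := by rw [← e, ← e']
      _ = b⁻¹ * ((f y)⁻¹ * f y') * b' := by group
      _ = ((f y)⁻¹ * f y') * b⁻¹ * b' := by
        rw [hab _ (hB (inv_mem hb)) _ (hA (mul_mem (inv_mem ha) ha'))]
      _ = (f y)⁻¹ * f y' * (b⁻¹ * b') := by group
  rw [e1]
  exact mul_mem hd (mul_mem (inv_mem hb) hb')

theorem two_mul_relIndex_le [Finite G] {D P W : Subgroup G} (hDP : D ≤ P) (hPW : P ≤ W) {x : G} (hx : x ∈ W)
    (hxP : x ∉ P) : 2 * D.relIndex P ≤ D.relIndex W := by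
  have h1 := relIndex_mul_relIndex D P W hDP hPW
  have h2 : P.relIndex W ≠ 1 := fun e => hxP (relIndex_eq_one.mp e hx)
  have h3 : P.relIndex W ≠ 0 := Nat.pos_iff_ne_zero.mp (Nat.pos_of_ne_zero (index_ne_zero_of_finite))
  rw [← h1, mul_comm]
  exact Nat.mul_le_mul_left _ (by omega)

theorem relIndex_pos' [Finite G] (A B : Subgroup G) : 0 < A.relIndex B :=
  Nat.pos_of_ne_zero index_ne_zero_of_finite

theorem card_eq_relIndex_mul [Finite G] (A B : Subgroup G) :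
    Nat.card B = A.relIndex B * Nat.card (A ⊓ B : Subgroup G) := by
  have h1 := relIndex_mul_relIndex ⊥ (A ⊓ B) B bot_le inf_le_right
  rw [relIndex_bot_left, relIndex_bot_left, inf_relIndex_right] at h1
  rw [← h1, mul_comm]

theorem card_zpowers_two {r : G} (hr : r * r = 1) (hr1 : r ≠ 1) : Nat.card (zpowers r) = 2 := by
  rw [Nat.card_zpowers]
  refine orderOf_eq_prime ?_ hr1
  rw [pow_two, hr]

namespace KO

variable {T V : Subgroup G} {z : G} {a b c p r : G} [Finite G]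

theorem relIndex_cx_eq (h : KO T V z) {r' a' : G} (hra : Col V r a) (hne : a ≠ r) (hra' : Col V r' a')
    (hne' : a' ≠ r') : (cx V r a).relIndex (ws V r) = (cx V r' a').relIndex (ws V r') := by
  obtain ⟨g, e1, e2⟩ := exists_flag_conj h.fr hra hne hra' hne'
  rw [← e1, ← e2, ← cj_cx, ← cj_ws, relIndex_cj]

/-- `2 be³ ≤ |W_r|` -/
theorem card_ge (h : KO T V z) {a₁ a₂ a₃ : G} (h1 : Col V r a₁) (h2 : Col V r a₂) (h3 : Col V r a₃)
    (n1 : a₁ ≠ r) (n2 : a₂ ≠ r) (n3 : a₃ ≠ r) (h12 : ¬ Cc V r a₁ a₂) (h13 : ¬ Cc V r a₁ a₃) (h23 : ¬ Cc V r a₂ a₃) :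
    2 * (cx V r a₁).relIndex (ws V r) ^ 3 ≤ Nat.card (ws V r) := by
  have e2 := h.relIndex_cx_eq h2 n2 h1 n1
  have e3 := h.relIndex_cx_eq h3 n3 h1 n1
  set be := (cx V r a₁).relIndex (ws V r) with hbe
  have hab := h.fr.ws_comm h1.left
  have s12 : ws V r ≤ cx V r a₁ ⊔ cx V r a₂ := by
    refine ws_le_of_pts h1.ne_one fun b hb => ?_
    by_cases hc : Cc V r a₁ b
    · refine le_sup_right (a := cx V r a₁) (h.mem_cx_of_not hb h2 fun e => h12 ?_)
      exact hc.trans (h.cc_symm e)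
    · exact le_sup_left (b := cx V r a₂) (h.mem_cx_of_not hb h1 hc)
  have s3 : ws V r ≤ (cx V r a₁ ⊓ cx V r a₂) ⊔ cx V r a₃ := by
    refine ws_le_of_pts h1.ne_one fun b hb => ?_
    by_cases hc : Cc V r a₃ b
    · refine le_sup_left (b := cx V r a₃) (mem_inf.mpr ⟨?_, ?_⟩)
      · exact h.mem_cx_of_not hb h1 fun e => h13 (e.trans (h.cc_symm hc))
      · exact h.mem_cx_of_not hb h2 fun e => h23 (e.trans (h.cc_symm hc))
    · exact le_sup_right (a := cx V r a₁ ⊓ cx V r a₂) (h.mem_cx_of_not hb h3 hc)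
  have i2 := relIndex_eq_of_sup (cx_le V r a₁) hab (cx_le V r a₂) s12
  have i3 := relIndex_eq_of_sup (A := cx V r a₁ ⊓ cx V r a₂) (inf_le_left.trans (cx_le V r a₁)) hab
    (cx_le V r a₃) s3
  rw [e2] at i2
  rw [e3] at i3
  have c1 := card_eq_relIndex_mul (cx V r a₁) (ws V r)
  have c2 := card_eq_relIndex_mul (cx V r a₂) (cx V r a₁)
  have c3 := card_eq_relIndex_mul (cx V r a₃) (cx V r a₁ ⊓ cx V r a₂)
  rw [inf_eq_left.mpr (cx_le V r a₁)] at c1
  rw [inf_comm] at c2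
  have hz : zpowers r ≤ cx V r a₃ ⊓ (cx V r a₁ ⊓ cx V r a₂) := by
    rw [zpowers_le]
    exact ⟨h.r_mem_cx h3, h.r_mem_cx h1, h.r_mem_cx h2⟩
  have c4 : 2 ≤ Nat.card (cx V r a₃ ⊓ (cx V r a₁ ⊓ cx V r a₂) : Subgroup G) := by
    rw [← card_zpowers_two (h.fr.pt_sq h1.left) h1.ne_one]
    exact card_le_of_le hz
  rw [c1, c2, c3, ← hbe]
  calc 2 * be ^ 3 = be * (be * (be * 2)) := by ring
    _ ≤ _ := Nat.mul_le_mul_left _ (Nat.mul_le_mul i2 (Nat.mul_le_mul i3 c4))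

/-- three components -/
theorem three (h : KO T V z) : ∃ a₁ a₂ a₃, Col V z a₁ ∧ Col V z a₂ ∧ Col V z a₃ ∧ a₁ ≠ z ∧ a₂ ≠ z ∧ a₃ ≠ z ∧
    ¬ Cc V z a₁ a₂ ∧ ¬ Cc V z a₁ a₃ ∧ ¬ Cc V z a₂ a₃ := by
  obtain ⟨a₀, r₀, b₀, hm⟩ := h.crit
  obtain ⟨y, hy, hy1, hyz⟩ := h.fr.ln.exists_y
  have hzy : Col V z y :=
    ⟨1, by rw [cj_one]; exact h.fr.ln.z_mem, by rw [cj_one]; exact hy, h.fr.ln.z_ne, hy1⟩
  obtain ⟨g, e1, e2⟩ := exists_flag_conj h.fr hm.pr.symm hm.ne_pr hzy hyz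
  have hn0 : ¬ Cc V r₀ a₀ b₀ := fun e => hm.ne (h.com hm.pr.symm e)
  set b := g * b₀ * g⁻¹ with hb
  have hzb : Col V z b := by
    have := hm.rq.conj g
    rwa [e1] at this
  have hbz : b ≠ z := by
    intro e
    apply hm.ne_rq
    rw [← e1, hb] at e
    simpa using e.symm
  have hyb : ¬ Cc V z y b := by
    intro e
    apply hn0
    refine Cc.of_conj g ?_
    rwa [e1, e2]
  obtain ⟨c₀, e3, e4⟩ := exists_flag_conj h.fr hzy hyz hzb hbz
  have hc₀ : c₀ ∈ centralizer ({z} : Set G) := by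
    rw [mem_centralizer_singleton_iff]; exact comm_of_conj_eq e3
  -- the stabiliser of the component of `y`
  have hcz : ∀ g ∈ centralizer ({z} : Set G), g * z * g⁻¹ = z := fun g hg =>
    conj_eq_of_comm (mem_centralizer_singleton_iff.mp hg)
  let N : Subgroup G :=
    { carrier := {g | g ∈ centralizer ({z} : Set G) ∧ Cc V z y (g * y * g⁻¹)}
      mul_mem' := by
        rintro g k ⟨hg, hg1⟩ ⟨hk, hk1⟩
        refine ⟨mul_mem hg hk, hg1.trans ?_⟩
        have := hk1.conj g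
        rw [hcz g hg] at this
        have e : g * (k * y * k⁻¹) * g⁻¹ = g * k * y * (g * k)⁻¹ := by group
        rwa [e] at this
      one_mem' := ⟨one_mem _, by simpa using Cc.refl V z y⟩
      inv_mem' := by
        rintro g ⟨hg, hg1⟩
        refine ⟨inv_mem hg, h.cc_symm ?_⟩
        refine Cc.of_conj g ?_
        have e : g * (g⁻¹ * y * g⁻¹⁻¹) * g⁻¹ = y := by group
        rwa [hcz g hg, e] }
  have hTN : T ≤ N := by
    intro t ht
    have ht1 := h.fr.ln.T_le ht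
    refine ⟨ht1, ?_⟩
    rcases h.fr.ln.conj_cases h.fr.ln.z_mem hy h.fr.ln.z_ne (mem_centralizer_singleton_iff.mp ht1)
      (h.fr.ln.T_norm ht) with e | e
    · rw [e]; exact .refl _ _ _
    · rw [e]; exact h.cc_mul hzy hyz
  have hodd : ¬ 2 ∣ N.relIndex (centralizer ({z} : Set G)) := fun hd =>
    h.fr.ln.T_syl (hd.trans (relIndex_dvd_of_le_left _ hTN))
  have hc₀N : c₀ ∉ N := fun e => hyb (by have := e.2; rwa [e4] at this)
  have hex : ∃ c₁ ∈ centralizer ({z} : Set G), c₁ ∉ N ∧ c₀⁻¹ * c₁ ∉ N := by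
    by_contra hcon
    push Not at hcon
    apply hodd
    have h2 : N.relIndex (centralizer ({z} : Set G)) = 2 := by
      refine index_eq_two_iff.mpr ⟨⟨c₀, hc₀⟩, fun x => ?_⟩
      simp only [mem_subgroupOf, Subgroup.coe_mul]
      by_cases hx : (x : G) ∈ N
      · exact Or.inr ⟨hx, fun e => hc₀N ((N.mul_mem_cancel_left hx).mp e)⟩
      · refine Or.inl ⟨?_, hx⟩
        have := hcon (x : G)⁻¹ (inv_mem x.2) (fun e => hx (by simpa using inv_mem e))
        have := inv_mem this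
        simpa using this
    rw [h2]
  obtain ⟨c₁, hc₁, hc₁N, hc₁N'⟩ := hex
  have hcol : ∀ g ∈ centralizer ({z} : Set G), Col V z (g * y * g⁻¹) ∧ g * y * g⁻¹ ≠ z := by
    intro g hg
    refine ⟨?_, ?_⟩
    · have := hzy.conj g
      rwa [hcz g hg] at this
    · intro e
      apply hyz
      have : y = g⁻¹ * z * g := by rw [← e]; group
      rw [this]
      have := hcz g⁻¹ (inv_mem hg)
      rwa [inv_inv] at this
  refine ⟨y, c₀ * y * c₀⁻¹, c₁ * y * c₁⁻¹, hzy, (hcol c₀ hc₀).1, (hcol c₁ hc₁).1, hyz, (hcol c₀ hc₀).2,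
    (hcol c₁ hc₁).2, fun e => hc₀N ⟨hc₀, e⟩, fun e => hc₁N ⟨hc₁, e⟩, fun e => ?_⟩
  apply hc₁N'
  refine ⟨mul_mem (inv_mem hc₀) hc₁, ?_⟩
  refine Cc.of_conj c₀ ?_
  have e5 : c₀ * (c₀⁻¹ * c₁ * y * (c₀⁻¹ * c₁)⁻¹) * c₀⁻¹ = c₁ * y * c₁⁻¹ := by group
  rwa [hcz c₀ hc₀, e5]

/-- (2.4) -/
theorem relIndex_le (h : KO T V z) (hj : Jn V r a b) :
    (ws V b).relIndex (ws V a) ≤ (cx V r a).relIndex (ws V r) := by
  have hra := hj.1.symm
  have hrb := hj.2.1
  have haW := h.fr.mem_ws_of_col hra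
  have hbW := h.fr.mem_ws_of_col hrb
  have hcomab : Com V a b := h.com hra (.single hj)
  have haa := h.fr.pt_sq hra.right
  -- `c ~ b`, `W_c` moves `a`
  obtain ⟨c, hbc, w₀, hw₀, hne₀⟩ := exists_ws V (h.j1 _ _ _ hj).exists_ne
  have haU : a ∈ uu V b := ws_le_uu hrb.symm haW
  -- a point `w ~ c` moved by `a`
  have h2 : ∃ w, Col V c w ∧ a * w * a⁻¹ ≠ w := by
    by_contra hcon
    push Not at hcon
    have h3 : ws V c ≤ centralizer ({a} : Set G) := by
      refine ws_le_of_pts hbc.symm.ne_one fun w hw => ?_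
      rw [mem_centralizer_singleton_iff]
      exact (comm_of_conj_eq (hcon w hw)).symm
    exact hne₀ (conj_eq_of_comm (mem_centralizer_singleton_iff.mp (h3 hw₀)))
  obtain ⟨w, hcw, hwa⟩ := h2
  have hwW := h.fr.mem_ws_of_col hcw
  have hjw : Jn V c b w := Jn.of_ne h.toTyN hbc hcw haU hwa
  have eaw : a * w * a⁻¹ = b * w := (act h.toTyN hbc haU hwW).resolve_left hwa
  have hww := h.fr.pt_sq hcw.right
  have hcb := hbc.symm
  have hbne : b ≠ c := hjw.ne_left h.toTyN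
  have hbinv : b⁻¹ = b := inv_eq_self (h.fr.pt_sq hrb.right)
  have hab : a * b = b * a := h.fr.ws_comm hra.left a haW b hbW
  have ewa : w * a * w⁻¹ = a * b := by
    have e1 : w * a⁻¹ * w⁻¹ = a⁻¹ * b := by
      calc w * a⁻¹ * w⁻¹ = a⁻¹ * (a * w * a⁻¹) * w⁻¹ := by group
        _ = a⁻¹ * b := by rw [eaw]; group
    calc w * a * w⁻¹ = (w * a⁻¹ * w⁻¹)⁻¹ := by group
      _ = b⁻¹ * a := by rw [e1]; group
      _ = a * b := by rw [hbinv, hab]
  -- elements of `W_a` fix `c` and `b`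
  have hyc : ∀ y ∈ ws V a, y * c * y⁻¹ = c := fun y hy =>
    conj_eq_of_comm (hcomab y hy c (h.fr.mem_ws_of_col hbc))
  have hyb : ∀ y ∈ ws V a, y * b * y⁻¹ = b := fun y hy =>
    conj_eq_of_comm (h.toTwo.com hra.symm y hy b hbW)
  have hya : ∀ y ∈ ws V a, y * a = a * y := fun y hy =>
    h.fr.ws_comm hra.right y hy a (h.fr.mem_ws_self hra.right)
  have hpt : ∀ y ∈ ws V a, Jn V c b (y * w * y⁻¹) := by
    intro y hy
    have := hjw.conj y
    rwa [hyc y hy, hyb y hy] at this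
  -- `P`
  let P : Subgroup G := ws V c ⊓ centralizer ({a} : Set G)
  have hDP : cx V c b ≤ P := by
    intro x hx
    refine mem_inf.mpr ⟨hx.1, ?_⟩
    rw [mem_centralizer_singleton_iff]
    exact (hx.2 b (.refl _ _ _) a haU).symm
  have hwP : w ∉ P := fun e => hwa (conj_eq_of_comm (mem_centralizer_singleton_iff.mp e.2).symm)
  have c1 := two_mul_relIndex_le hDP inf_le_left hwW hwP
  -- `B₂`
  let B₂ : Subgroup G :=
    { carrier := {y | y ∈ ws V a ∧ (y * w * y⁻¹ = w ∨ y * w * y⁻¹ = c * w)}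
      mul_mem' := by
        rintro x y ⟨hx, hx1⟩ ⟨hy, hy1⟩
        refine ⟨mul_mem hx hy, ?_⟩
        have e : x * y * w * (x * y)⁻¹ = x * (y * w * y⁻¹) * x⁻¹ := by group
        have e2 : x * (c * w) * x⁻¹ = c * (x * w * x⁻¹) := by
          calc x * (c * w) * x⁻¹ = (x * c * x⁻¹) * (x * w * x⁻¹) := by group
            _ = c * (x * w * x⁻¹) := by rw [hyc x hx]
        have hcc := h.fr.pt_sq hcb.left
        rw [e]
        rcases hy1 with e1 | e1
        · rw [e1]; exact hx1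
        · rw [e1, e2]
          rcases hx1 with e3 | e3
          · exact Or.inr (by rw [e3])
          · exact Or.inl (by rw [e3, ← mul_assoc, hcc, one_mul])
      one_mem' := ⟨one_mem _, Or.inl (by simp)⟩
      inv_mem' := by
        rintro x ⟨hx, hx1⟩
        refine ⟨inv_mem hx, ?_⟩
        have hxi : x⁻¹ = x := inv_eq_self (h.fr.ws_sq hra.right x hx)
        rw [hxi]; exact hx1 }
  have hB₂ : B₂ ≤ ws V a := fun y hy => hy.1
  let B : Subgroup G := ws V a ⊓ centralizer ({w} : Set G)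
  have hBB : B ≤ B₂ := fun y hy => ⟨hy.1, Or.inl (conj_eq_of_comm (mem_centralizer_singleton_iff.mp hy.2))⟩
  have hBb : B ≤ ws V b := fun x hx =>
    hj.mem_of_fix h.toTyN ewa hx.1 (mem_centralizer_singleton_iff.mp hx.2).symm
  have c2 : B₂.relIndex (ws V a) ≤ (cx V c b).relIndex P := by
    refine relIndex_le_of_map (fun y => w⁻¹ * (y * w * y⁻¹)) (fun y hy => ?_) fun y hy y' hy' hd => ?_
    · have h1 : y * w * y⁻¹ ∈ ws V c := by
        have := conj_mem_ws y hwW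
        rwa [hyc y hy] at this
      refine mem_inf.mpr ⟨mul_mem (inv_mem hwW) h1, ?_⟩
      rw [mem_centralizer_singleton_iff]
      refine (comm_of_conj_eq ?_).symm
      have hay : a * y = y * a := (hya y hy).symm
      have hyi : a * y⁻¹ = y⁻¹ * a := comm_inv_of hay
      calc a * (w⁻¹ * (y * w * y⁻¹)) * a⁻¹
          = (a * w * a⁻¹)⁻¹ * (a * y * w * (a * y)⁻¹) := by group
        _ = (b * w)⁻¹ * (y * (a * w * a⁻¹) * y⁻¹) := by rw [eaw, hay, ← eaw]; group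
        _ = w⁻¹ * b⁻¹ * ((y * b * y⁻¹) * (y * w * y⁻¹)) := by rw [eaw]; group
        _ = w⁻¹ * (y * w * y⁻¹) := by rw [hyb y hy]; group
    · have e1 : (w⁻¹ * (y * w * y⁻¹))⁻¹ * (w⁻¹ * (y' * w * y'⁻¹)) = (y * w * y⁻¹)⁻¹ * (y' * w * y'⁻¹) := by
        group
      rw [e1] at hd
      have hp1 := hpt y hy
      have hp2 := hpt y' hy'
      have hcp1 := hp1.2.1
      have hinv : (y * w * y⁻¹)⁻¹ = y * w * y⁻¹ := inv_eq_self (h.fr.pt_sq hcp1.right)
      rw [hinv] at hd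
      have hcc1 : Cc V c b (y * w * y⁻¹) := .single hp1
      have hcc2 : Cc V c b (y' * w * y'⁻¹) := .single hp2
      rw [h.cx_eq hcc1] at hd
      have hne1 := h.cc_ne hcc1 hbne
      refine ⟨mul_mem (inv_mem hy) hy', ?_⟩
      have e2 : y⁻¹ * y' * w * (y⁻¹ * y')⁻¹ = y⁻¹ * (y' * w * y'⁻¹) * y := by group
      rw [e2]
      rcases h.eq_of_cx hcp1 hne1 ((h.cc_symm hcc1).trans hcc2) hd with e | e
      · left
        rw [e]; group
      · right
        rw [e]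
        have e3 := hyc y⁻¹ (inv_mem hy)
        rw [inv_inv] at e3
        calc y⁻¹ * (c * (y * w * y⁻¹)) * y = (y⁻¹ * c * y) * w := by group
          _ = c * w := by rw [e3]
  have c3 : B.relIndex B₂ ≤ 2 := by
    have h1 : B.relIndex B₂ ≤ (⊥ : Subgroup G).relIndex (zpowers c) := by
      refine relIndex_le_of_map (fun y => y * w * y⁻¹ * w⁻¹) (fun y hy => ?_) fun y hy y' hy' hd => ?_
      · rcases hy.2 with e | e
        · rw [e, mul_inv_cancel]; exact one_mem _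
        · rw [e, mul_inv_cancel_right]; exact mem_zpowers c
      · have h2 : y * w * y⁻¹ = y' * w * y'⁻¹ := by
          have h3 := inv_mul_eq_one.mp (mem_bot.mp hd)
          exact mul_right_cancel h3
        refine mem_inf.mpr ⟨mul_mem (inv_mem hy.1) hy'.1, ?_⟩
        rw [mem_centralizer_singleton_iff]
        refine comm_of_conj_eq ?_
        calc y⁻¹ * y' * w * (y⁻¹ * y')⁻¹ = y⁻¹ * (y' * w * y'⁻¹) * y := by group
          _ = w := by rw [← h2]; group
    rwa [relIndex_bot_left, card_zpowers_two (h.fr.pt_sq hcb.left) hcb.ne_one] at h1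
  have c4 := relIndex_mul_relIndex B B₂ (ws V a) hBB hB₂
  have c5 : (ws V b).relIndex (ws V a) ≤ B.relIndex (ws V a) :=
    relIndex_le_of_le_left hBb index_ne_zero_of_finite
  have c6 := h.relIndex_cx_eq hcb hbne hra (hj.ne_left h.toTyN)
  calc (ws V b).relIndex (ws V a) ≤ B.relIndex (ws V a) := c5
    _ = B.relIndex B₂ * B₂.relIndex (ws V a) := c4.symm
    _ ≤ 2 * (cx V c b).relIndex P := Nat.mul_le_mul c3 c2
    _ ≤ (cx V c b).relIndex (ws V c) := c1
    _ = _ := c6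

/-- (2.5) -/
theorem card_ii_le (h : KO T V z) {g : G} (hr : r ∈ cj g V) (hb : b ∈ cj g V) (hr1 : r ≠ 1) (hb1 : b ≠ 1)
    (hne : b ≠ r) : Nat.card (ii (cj g V)) ≤ (cx V r b).relIndex (ws V r) := by
  have hrb : Col V r b := ⟨g, hr, hb, hr1, hb1⟩
  obtain ⟨a, hj⟩ := h.exists_jn hrb hne
  obtain ⟨u, hu, hua⟩ := hj.exists_ne
  have haW := h.fr.mem_ws_of_col hj.2.1
  have hnb := h.not_mem_cx hrb hne
  let P : Subgroup G := ws V r ⊓ centralizer (uu V b : Set G)
  have hDP : cx V r b ≤ P := by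
    intro x hx
    refine mem_inf.mpr ⟨hx.1, ?_⟩
    rw [mem_centralizer_iff]
    exact fun u hu => hx.2 b (.refl _ _ _) u hu
  have haP : a ∉ P := fun e => hua (conj_eq_of_comm (mem_centralizer_iff.mp e.2 u hu))
  have c1 := two_mul_relIndex_le hDP inf_le_left haW haP
  have hiP : ii (cj g V) ≤ P := by
    intro x hx
    refine mem_inf.mpr ⟨h.fr.ii_cj_le hr hr1 hx, ?_⟩
    rw [mem_centralizer_iff]
    exact fun u hu => uu_comm_ws h.toTyN hu (h.fr.ii_cj_le hb hb1 hx)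
  have key : ∀ x ∈ ii (cj g V), x ∈ cx V r b → x ∈ zpowers r := by
    intro x hx hxD
    have hxV : x ∈ cj g V := by
      by_contra hxV
      obtain ⟨k, hk, hkV, hkx⟩ := h.fr.fu_cj hx hxV hb hb1
      apply hnb
      have hkr : k * r * k⁻¹ = r := conj_eq_of_comm (mem_centralizer_iff.mp hkV r hr).symm
      have hkb : k * b * k⁻¹ = b := conj_eq_of_comm (mem_centralizer_iff.mp hkV b hb).symm
      have h1 := conj_mem_cx k hxD
      rw [hkr, hkb, hkx] at h1
      have := mul_mem h1 (inv_mem hxD)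
      rwa [mul_inv_cancel_right] at this
    obtain ⟨k, -, -, hf⟩ := h.fr.flag hr hr1
    rcases hf.ln.four hr hb hr1 hb1 hne.symm hxV with e | e | e | e
    · rw [e]; exact one_mem _
    · rw [e]; exact mem_zpowers r
    · exact absurd (e ▸ hxD) hnb
    · exfalso
      apply hnb
      rw [e] at hxD
      have := mul_mem (inv_mem (h.r_mem_cx hrb)) hxD
      rwa [inv_mul_cancel_left] at this
  have c2 : (zpowers r).relIndex (ii (cj g V)) ≤ (cx V r b).relIndex P := by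
    refine relIndex_le_of_map id (fun y hy => hiP hy) fun y hy y' hy' hd => ?_
    exact key _ (mul_mem (inv_mem hy) hy') hd
  have hrI : zpowers r ≤ ii (cj g V) := by
    rw [zpowers_le]
    obtain ⟨k, -, -, hf⟩ := h.fr.flag hr hr1
    exact hf.V_le_ii hr
  have c3 := card_eq_relIndex_mul (zpowers r) (ii (cj g V))
  rw [inf_eq_left.mpr hrI, card_zpowers_two (h.fr.pt_sq hrb.left) hr1] at c3
  rw [c3]
  calc (zpowers r).relIndex (ii (cj g V)) * 2 ≤ (cx V r b).relIndex P * 2 := Nat.mul_le_mul_right _ c2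
    _ = 2 * (cx V r b).relIndex P := mul_comm _ _
    _ ≤ _ := c1

/-- `κ = 1` is impossible -/
theorem false (h : KO T V z) : False := by
  obtain ⟨a₁, a₂, a₃, h1, h2, h3, n1, n2, n3, h12, h13, h23⟩ := h.three
  have hcard := h.card_ge h1 h2 h3 n1 n2 n3 h12 h13 h23
  set be := (cx V z a₁).relIndex (ws V z) with hbe
  have hpos : 0 < be := relIndex_pos' _ _
  obtain ⟨b, hj'⟩ := h.exists_jn h1 n1
  have hne1 := n1
  obtain ⟨g, hr, hb, hr1, hb1⟩ := id hj'.2.1
  have hbz : b ≠ z := hj'.ne_right h.toTyN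
  have hzb : Col V z b := hj'.2.1
  -- `b`, `z b` are joined to `a₁`
  have hj2 : Jn V z a₁ (z * b) := h.j1 _ _ _ (h.jn_mul (h.j1 _ _ _ hj'))
  have i1 := h.relIndex_le hj'
  have i2 := h.relIndex_le hj2
  rw [← hbe] at i1 i2
  have hzb1 : z * b ≠ 1 := hj2.2.1.symm.ne_one
  have hzbm : z * b ∈ cj g V := mul_mem hr hb
  have hne : z * b ≠ b := fun e => hr1 (by simpa using e)
  have i3 := h.card_ii_le hr hb hr1 hb1 hbz
  rw [h.relIndex_cx_eq hzb hbz h1 n1, ← hbe] at i3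
  -- `|W_a ∩ I| ≤ |I| / 2`
  have hbI : b ∈ ii (cj g V) := by
    obtain ⟨k, -, -, hf⟩ := h.fr.flag hr hr1
    exact hf.V_le_ii hb
  have hbn : b ∉ ws V a₁ := hj'.not_mem h.toTyN
  have i4 : 2 * Nat.card (ws V a₁ ⊓ ii (cj g V) : Subgroup G) ≤ Nat.card (ii (cj g V)) := by
    have e1 := card_eq_relIndex_mul (ws V a₁) (ii (cj g V))
    have e2 : (ws V a₁).relIndex (ii (cj g V)) ≠ 1 := fun e => hbn (relIndex_eq_one.mp e hbI)
    have e3 := relIndex_pos' (ws V a₁) (ii (cj g V))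
    rw [e1]
    exact Nat.mul_le_mul_right _ (by omega)
  have i5 : (ws V (z * b) ⊓ (ws V b ⊓ ws V a₁) : Subgroup G) ≤ ws V a₁ ⊓ ii (cj g V) := by
    rintro x ⟨hx1, hx2, hx3⟩
    exact ⟨hx3, h.fr.mem_ii_cj hb hb1 hzbm hzb1 hne hx2 hx1⟩
  have i6 := card_le_of_le i5
  have c1 := card_eq_relIndex_mul (ws V b) (ws V a₁)
  have c2 := card_eq_relIndex_mul (ws V (z * b)) (ws V b ⊓ ws V a₁)
  have i7 : (ws V (z * b)).relIndex (ws V b ⊓ ws V a₁) ≤ be :=
    (relIndex_le_of_le_right inf_le_right index_ne_zero_of_finite).trans i2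
  -- `|W_a| = |W_z|`
  have hcd : Nat.card (ws V a₁) = Nat.card (ws V z) := by
    obtain ⟨g', e⟩ := h.fr.exists_conj h1.left h1.right
    rw [← e, ← cj_ws, card_cj]
  rw [← hcd] at hcard
  have c3 : 2 * Nat.card (ws V a₁) ≤ be ^ 3 := by
    calc 2 * Nat.card (ws V a₁) = (ws V b).relIndex (ws V a₁) * ((ws V (z * b)).relIndex (ws V b ⊓ ws V a₁) *
          (2 * Nat.card (ws V (z * b) ⊓ (ws V b ⊓ ws V a₁) : Subgroup G))) := by rw [c1, c2]; ring
      _ ≤ be * (be * be) := Nat.mul_le_mul i1 (Nat.mul_le_mul i7 (by omega))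
      _ = be ^ 3 := by ring
  have : 0 < be ^ 3 := pow_pos hpos 3
  omega

end KO

/-- **section 2: `κ = 1` is impossible** -/
theorem false_of_kap_one [Finite G] {T V : Subgroup G} {z : G} (h : TyN T V z)
    (hc : ∃ a r b, Mid T V z a r b) (hk : ¬ K2 V) (hj : ∀ r a b, Jn V r a b → Jn V r b a) : False :=
  KO.false { h with crit := hc, k1 := hk, j1 := hj }

end Cfsg.Agent.Omega.NO3S.TypeN
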