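import Cfsg.Agent.Omega.NO3S.TypeN.AEnd
import Cfsg.Agent.Omega.NO3S.TypeN.Joined
import Cfsg.Agent.Omega.NO3S.TypeN.KapOne

/-!
# NO-3S, `|V| = 4`, `n = 2`: TYPE N is impossible (helper60, bb #16001)

`TyN.false` : no critical pair in TYPE N.
-/

set_option autoImplicit false

namespace Cfsg.Agent.Omega.NO3S.TypeN

open Subgroup Cfsg.Agent.Omega.NO3S.TwoMid Cfsg.Agent.Omega.NO3S.Pt

universe u

variable {G : Type u} [Group G] [Finite G] {T V : Subgroup G} {z : G}

/-- **TYPE N is impossible** (K-free). -/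
theorem false_of_tyN (h : TyN T V z) {a r b : G} (hm : Mid T V z a r b) : False := by
  have j1 : ∀ r a b, Jn V r a b → Jn V r b a := fun r a b hj => jn_symm h hj
  by_cases hK : K2 V
  · by_cases hA : ∃ c p r, Mid T V z c p r ∧ Jn V p r c
    · obtain ⟨c, p, r, hm, hj⟩ := hA
      exact a1 { h with j1 := j1, j2 := fun r a b c h1 h2 h3 h4 => jn_trans h hK h1 h2 h3 h4 } hm hj
    · push Not at hA
      exact a2 h hK j1 hA
  · exact false_of_kap_one h ⟨a, r, b, hm⟩ hK j1

/-- in the form of a conclusion about critical pairs: with TYPE N all pairs at distance 2 commute -/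
theorem com_of_tyN (h : TyN T V z) {a r b : G} (h1 : Col V a r) (h2 : Col V r b) : Com V a b := by
  by_contra hne
  exact false_of_tyN h { h.toTwo with pr := h1, rq := h2, ne := hne }

end Cfsg.Agent.Omega.NO3S.TypeN
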