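import Cfsg.Agent.Omega.NO3S.TypeN.AOne

/-!
# NO-3S, `|V| = 4`, `n = 2`, TYPE N: case (A1), the end (helper60, bb #16001, section 6, with helper864's shortcut)

* `HyA.cent_w0` : `C_{W_a⁰}(W_b) = ⟨a, r⟩`;
* `HyA.exists_elt` : the element `v`, trivial on `Q_a` and `Q_{ar}`, nontrivial on `W_r⁰`;
* `HyA.contra`, `a1`.
-/

set_option autoImplicit false
set_option linter.unusedSectionVars false

namespace Cfsg.Agent.Omega.NO3S.TypeN

open Subgroup Cfsg Cfsg.Agent.ZN Cfsg.Agent.MinSimple.Geo Cfsg.Agent.Omega.CaseL Cfsg.Agent.Omega.NO3S.TwoOne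
  Cfsg.Agent.Omega.NO3S.Pt Cfsg.Agent.Omega.NO3S.TwoMid
open Cfsg.Agent.ZN.Block (conj_mem_of_normalizer conj_mem_of_normalizer' le_normalizer_of_forall
  mem_normalizer_of)

universe u

variable {G : Type u} [Group G] {T V : Subgroup G} {z : G} {a b c e p r x y : G}

theorem card_mul_le' [Finite G] {A H : Subgroup G} (hHA : H ≤ A) {ι : Type} [Fintype ι] (f : ι → G)
    (hf : ∀ i, f i ∈ A) (hinj : ∀ i j, (f i)⁻¹ * f j ∈ H → i = j) : Fintype.card ι * Nat.card H ≤ Nat.card A := by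
  rw [card_sub hHA]
  refine Nat.mul_le_mul_right _ ?_
  rw [← Nat.card_eq_fintype_card]
  refine Nat.card_le_card_of_injective (fun i => ((⟨f i, hf i⟩ : A) : A ⧸ H.subgroupOf A)) ?_
  intro i j e
  have h2 := QuotientGroup.eq.mp e
  exact hinj i j (mem_subgroupOf.mp h2)

/-- four cosets -/
theorem four_mul_le [Finite G] {A H : Subgroup G} (hHA : H ≤ A) {y₁ y₂ : G} (h1 : y₁ ∈ A) (h2 : y₂ ∈ A)
    (s1 : y₁ * y₁ = 1) (hc : y₁ * y₂ = y₂ * y₁) (s2 : y₂ * y₂ = 1) (n1 : y₁ ∉ H) (n2 : y₂ ∉ H) (n3 : y₁ * y₂ ∉ H) :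
    4 * Nat.card H ≤ Nat.card A := by
  have i1 : y₁⁻¹ = y₁ := inv_eq_self s1
  have i2 : y₂⁻¹ = y₂ := inv_eq_self s2
  have a1 : ∀ x : G, y₁ * (y₁ * x) = x := fun x => by rw [← mul_assoc, s1, one_mul]
  have c1 : ∀ x : G, y₂ * (y₁ * x) = y₁ * (y₂ * x) := fun x => by rw [← mul_assoc, ← hc, mul_assoc]
  have := card_mul_le' hHA (ι := Bool × Bool)
    (fun i => (if i.1 then y₁ else 1) * (if i.2 then y₂ else 1)) ?_ ?_
  · simpa using this
  · rintro ⟨i, j⟩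
    refine mul_mem ?_ ?_
    · simp only; split_ifs
      · exact h1
      · exact one_mem _
    · simp only; split_ifs
      · exact h2
      · exact one_mem _
  · rintro ⟨i, j⟩ ⟨k, l⟩ hm
    cases i <;> cases j <;> cases k <;> cases l <;>
      simp [i1, i2, n1, n2, n3, mul_assoc, a1, c1, s1, s2, hc.symm] at hm ⊢

namespace HyA

variable [Finite G]

/-- `C_{W_a⁰}(W_b) = ⟨a, r⟩` for `a`, `b` joined at `r` -/
theorem cent_w0 (h : HyA T V z) (hj : Jn V r a b) {y : G} (hy : y ∈ w0 V a r)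
    (hc : ∀ x ∈ ws V b, y * x = x * y) : ∃ g, a ∈ cj g V ∧ r ∈ cj g V ∧ y ∈ cj g V := by
  have ht := h.toTyN
  obtain ⟨y1, hy1, y2, hy2, n1, n2, n3⟩ := h.exists_two hj
  obtain ⟨g, hga, hgr, ha1, hr1⟩ := id hj.1
  refine ⟨g, hga, hgr, ?_⟩
  set H := w0 V a r ⊓ centralizer (ws V b : Set G) with hH
  have hw := h.w0_le hj.1
  have h1 : 4 * Nat.card H ≤ Nat.card (w0 V a r) := by
    refine four_mul_le inf_le_left hy1 hy2 (sq_ws ht hj.1.left (hw hy1)) (comm_ws ht hj.1.left (hw hy1) (hw hy2))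
      (sq_ws ht hj.1.left (hw hy2)) ?_ ?_ ?_
    · exact fun e => n1 (mem_inf.mp e).2
    · exact fun e => n2 (mem_inf.mp e).2
    · exact fun e => n3 (mem_inf.mp e).2
  have h2 := h.card_le hj
  obtain ⟨k, hk, -, hf⟩ := h.fr.flag hga ha1
  have h3 : Nat.card (cj g V) = 4 := hf.ln.card_V
  have hL : cj g V ≤ H := by
    have hbu : ∀ x ∈ ws V b, x ∈ uu V r := fun x hx => ws_le_uu hj.2.1 hx
    have ha : a ∈ H := by
      refine mem_inf.mpr ⟨a_mem_w0, mem_centralizer_iff.mpr fun x hx => ?_⟩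
      exact uu_comm_ws ht (hbu x hx) (h.fr.mem_ws_of_col hj.1.symm)
    have hr : r ∈ H := by
      refine mem_inf.mpr ⟨r_mem_w0, mem_centralizer_iff.mpr fun x hx => ?_⟩
      exact uu_comm_ws ht (hbu x hx) (h.fr.mem_ws_self hj.1.right)
    intro x hx
    rcases hf.ln.four hga hgr ha1 hr1 (hj.ne_left ht) hx with e | e | e | e <;> rw [e]
    · exact one_mem _
    · exact ha
    · exact hr
    · exact mul_mem ha hr
  have h4 : cj g V = H := by
    refine Subgroup.eq_of_le_of_card_ge hL ?_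
    rw [h3]
    omega
  rw [h4]
  exact mem_inf.mpr ⟨hy, mem_centralizer_iff.mpr fun x hx => (hc x hx).symm⟩

/-- `Tr0 V a r v`: `v` is trivial on `W_a⁰ / C(U_r)` -/
def Tr0 (V : Subgroup G) (a r v : G) : Prop := ∀ y ∈ w0 V a r, ∀ u ∈ uu V r, (v * y * v⁻¹ * y⁻¹) * u = u * (v * y * v⁻¹ * y⁻¹)

theorem Tr0.conj {v : G} (h : Tr0 V a r v) (g : G) : Tr0 V (g * a * g⁻¹) (g * r * g⁻¹) (g * v * g⁻¹) := by
  intro y hy u hu
  rw [← cj_w0] at hy
  rw [← cj_uu] at hu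
  have := h _ (mem_of_cj hy) _ (mem_of_cj hu)
  calc (g * v * g⁻¹ * y * (g * v * g⁻¹)⁻¹ * y⁻¹) * u
      = g * ((v * (g⁻¹ * y * g) * v⁻¹ * (g⁻¹ * y * g)⁻¹) * (g⁻¹ * u * g)) * g⁻¹ := by group
    _ = g * ((g⁻¹ * u * g) * (v * (g⁻¹ * y * g) * v⁻¹ * (g⁻¹ * y * g)⁻¹)) * g⁻¹ := by rw [this]
    _ = u * (g * v * g⁻¹ * y * (g * v * g⁻¹)⁻¹ * y⁻¹) := by group

/-- the element `v` of the configuration is trivial on `Q_a` -/
theorem cfg_tr {w v : G} (h : HyA T V z) (k : Cfg T V z c p r a w v x) : Tr0 V a r v := by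
  have ht := h.toTyN
  intro y hy u hu
  have hwp := k.w_mem h
  have hvp := k.v_mem h
  have hcol : Col V a r := k.pa.2.1.symm
  have hj : Jn V r a (p * a) := h.mul_self' k.pa
  have hvr : v * r = r * v := uu_comm_ws ht hvp (h.fr.mem_ws_of_col k.pa.1)
  have hyU : y ∈ uu V r := ws_le_uu hcol.symm (h.w0_le hcol hy)
  have hyp : y * p = p * y := uu_comm_ws ht hyU (h.fr.mem_ws_of_col k.pa.1.symm)
  set e := v * y * v⁻¹ * y⁻¹ with he
  have he1 : e ∈ w0 V a r := mul_mem (conj_mem_w0' k.va hvr hy) (inv_mem hy)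
  have he2 : e ∈ uu V p := by
    have h1 : y * v⁻¹ * y⁻¹ ∈ uu V p :=
      conj_mem_of_normalizer (centralizer_le_normalizer_uu V p) (mem_centralizer_singleton_iff.mpr hyp) (inv_mem hvp)
    have e1 : e = v * (y * v⁻¹ * y⁻¹) := by rw [he]; group
    rw [e1]
    exact mul_mem hvp h1
  have he3 : w * e * w⁻¹ * e⁻¹ ∈ zpowers p := h.uu_comm hwp he2
  -- `e` commutes with `W_{pa}`
  have hcp : Col V r (p * a) := hj.2.1
  have he4 : ∀ x ∈ ws V (p * a), e * x = x * e := by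
    intro x hx
    have h1 : w * e * w⁻¹ ∈ ws V (p * a) := by
      have := conj_mem_ws w (h.w0_le hcol he1)
      rwa [k.wa] at this
    have h2 := comm_ws ht hcp.right h1 hx
    have h3 : (w * e * w⁻¹ * e⁻¹) * x = x * (w * e * w⁻¹ * e⁻¹) := by
      have hxU : x ∈ uu V r := ws_le_uu hcp hx
      have hpx : p * x = x * p := (uu_comm_ws ht hxU (h.fr.mem_ws_of_col k.pa.1.symm)).symm
      rcases (mem_zpowers_iff_of_mul_self (sq_pt ht k.pa.1)).mp he3 with e1 | e1 <;> rw [e1]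
      · simp
      · exact hpx
    have e1 : e = (w * e * w⁻¹ * e⁻¹)⁻¹ * (w * e * w⁻¹) := by group
    rw [e1]
    exact mul_comm_of (inv_comm_of h3) h2
  obtain ⟨g, hga, hgr, hge⟩ := h.cent_w0 hj he1 he4
  have h5 : e ∈ ws V r := h.fr.line_le_ws hgr hge
  exact (uu_comm_ws ht hu h5).symm

/-- the element `v` -/
theorem exists_elt (h : HyA T V z) (hj : Jn V r a p) : ∃ v, v * a = a * v ∧ v * r = r * v ∧ Tr0 V a r v ∧
    Tr0 V (a * r) r v ∧ (∀ x ∈ w0 V r a, v * x * v⁻¹ = x ∨ v * x * v⁻¹ = p * x) ∧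
      ∃ x ∈ w0 V r a, v * x * v⁻¹ ≠ x := by
  have ht := h.toTyN
  obtain ⟨c', p', r', a', w, v, x, k⟩ := h.exists_cfg hj
  have hvp := k.v_mem h
  have hcol : Col V r' a' := k.pa.2.1
  have hvr : v * r' = r' * v := uu_comm_ws ht hvp (h.fr.mem_ws_of_col k.pa.1)
  have hwr : w * r' * w⁻¹ = r' := conj_eq_of_comm (uu_comm_ws ht (k.w_mem h) (h.fr.mem_ws_of_col k.pa.1))
  have k2 : Cfg T V z c' p' r' (a' * r') w v x :=
    { cr := k.cr
      pa := k.pa.shift_right ht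
      hw := k.hw
      hv := k.hv
      hx := k.hx
      wa := by
        calc w * (a' * r') * w⁻¹ = (w * a' * w⁻¹) * (w * r' * w⁻¹) := by group
          _ = p' * (a' * r') := by rw [k.wa, hwr, mul_assoc]
      va := comm_mul_of k.va hvr
      vx := k.vx }
  have t1 := h.cfg_tr k
  have t2 := h.cfg_tr k2
  -- `v` moves an element of `W_{r'}⁰`
  have hact : ∀ y ∈ ws V r', v * y * v⁻¹ = y ∨ v * y * v⁻¹ = p' * y := fun y hy => act ht k.pa.1 hvp hy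
  obtain ⟨x', hx', s, hs, hsu, rfl⟩ := h.ws_eq k.pa.1.symm k.hx
  have hmv : v * x' * v⁻¹ ≠ x' := by
    intro e
    have e1 : v * s * v⁻¹ = s := conj_eq_of_comm (hsu v hvp)
    have e2 : v * (x' * s) * v⁻¹ = x' * s := by
      calc v * (x' * s) * v⁻¹ = (v * x' * v⁻¹) * (v * s * v⁻¹) := by group
        _ = x' * s := by rw [e, e1]
    rw [k.vx] at e2
    exact k.pa.1.ne_one (by simpa using e2)
  have heq : w0 V r' p' = w0 V r' a' := h.w0_eq (by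
    -- `p'`, `a'` joined at `r'` : `Jn V r' p' a'`
    exact k.pa)
  rw [heq] at hx'
  obtain ⟨g, h1, h2, h3⟩ := h.triple_trans (h.j1 _ _ _ k.pa) hj
  refine ⟨g * v * g⁻¹, ?_, ?_, ?_, ?_, ?_, g * x' * g⁻¹, ?_, ?_⟩
  · rw [← h2]
    calc g * v * g⁻¹ * (g * a' * g⁻¹) = g * (v * a') * g⁻¹ := by group
      _ = g * (a' * v) * g⁻¹ := by rw [k.va]
      _ = g * a' * g⁻¹ * (g * v * g⁻¹) := by group
  · rw [← h1]
    calc g * v * g⁻¹ * (g * r' * g⁻¹) = g * (v * r') * g⁻¹ := by group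
      _ = g * (r' * v) * g⁻¹ := by rw [hvr]
      _ = g * r' * g⁻¹ * (g * v * g⁻¹) := by group
  · have := t1.conj g
    rwa [h1, h2] at this
  · have := t2.conj g
    have e : g * (a' * r') * g⁻¹ = a * r := by
      calc g * (a' * r') * g⁻¹ = (g * a' * g⁻¹) * (g * r' * g⁻¹) := by group
        _ = a * r := by rw [h1, h2]
    rwa [h1, e] at this
  · intro y hy
    rw [← h1, ← h2, ← cj_w0] at hy
    have hy' := mem_of_cj hy
    have e : g * v * g⁻¹ * y * (g * v * g⁻¹)⁻¹ = g * (v * (g⁻¹ * y * g) * v⁻¹) * g⁻¹ := by group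
    rcases hact _ (h.w0_le hcol hy') with e1 | e1
    · left
      rw [e, e1]; group
    · right
      rw [e, e1]
      calc g * (p' * (g⁻¹ * y * g)) * g⁻¹ = (g * p' * g⁻¹) * y := by group
        _ = p * y := by rw [h3]
  · have := conj_mem_w0 g hx'
    rwa [h1, h2] at this
  · intro e
    apply hmv
    have e1 : g * v * g⁻¹ * (g * x' * g⁻¹) * (g * v * g⁻¹)⁻¹ = g * (v * x' * v⁻¹) * g⁻¹ := by group
    rw [e1] at e
    calc v * x' * v⁻¹ = g⁻¹ * (g * (v * x' * v⁻¹) * g⁻¹) * g := by group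
      _ = g⁻¹ * (g * x' * g⁻¹) * g := by rw [e]
      _ = x' := by group

/-- the pairing argument: `d` fixes `a`, `r`, `b`, `W_{ar}⁰` and is trivial on `Q_r` -/
theorem pairing (h : HyA T V z) {s t b d : G} (hs : Jn V a s b) (ht' : Jn V a t b) (hda : d * a = a * d)
    (hdb : d * b = b * d) (hds : d * s = s * d) (hsf : ∀ y ∈ w0 V t a, d * y = y * d) {y : G} (hy : y ∈ w0 V s a) :
    ∃ g, s ∈ cj g V ∧ a ∈ cj g V ∧ d * y * d⁻¹ * y⁻¹ ∈ cj g V := by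
  have ht := h.toTyN
  have hab : Col V a b := hs.2.1
  -- commutators are in `⟨a⟩`
  have hcomm : ∀ q, Col V a q → ∀ y ∈ ws V q, ∀ y' ∈ ws V b, y * y' * y⁻¹ * y'⁻¹ ∈ zpowers a :=
    fun q hq y hy y' hy' => h.n q a b hq.symm hab y hy y' hy'
  have hdz : ∀ x ∈ zpowers a, d * x * d⁻¹ = x := fun x hx =>
    TyN.zc (mem_centralizer_singleton_iff.mpr hda) hx
  have hza : ∀ x ∈ zpowers a, ∀ u ∈ uu V a, x * u = u * x := by
    intro x hx u hu
    have := TyN.zc (h.uu_le_cr a hu) hx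
    exact (comm_of_conj_eq this).symm
  -- `W_b⁰`
  have step1 : ∀ y' ∈ w0 V b a, d * y' * d⁻¹ * y'⁻¹ ∈ ws V a := by
    intro y' hy'
    have hm : d * y' * d⁻¹ * y'⁻¹ ∈ w0 V b a := mul_mem (conj_mem_w0' hdb hda hy') (inv_mem hy')
    have hc : ∀ x ∈ ws V t, (d * y' * d⁻¹ * y'⁻¹) * x = x * (d * y' * d⁻¹ * y'⁻¹) := by
      intro x hx
      obtain ⟨x0, hx0, q, hq, hqu, rfl⟩ := h.ws_eq ht'.1 hx
      have hbU : ∀ w ∈ ws V b, w ∈ uu V a := fun w hw => ws_le_uu hab hw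
      have c2 : (d * y' * d⁻¹ * y'⁻¹) * q = q * (d * y' * d⁻¹ * y'⁻¹) :=
        hqu _ (hbU _ (h.w0_le hab.symm hm))
      have c1 : (d * y' * d⁻¹ * y'⁻¹) * x0 = x0 * (d * y' * d⁻¹ * y'⁻¹) := by
        have k1 := hcomm t ht'.1.symm x0 (h.w0_le ht'.1 hx0) y' (h.w0_le hab.symm hy')
        have k2 := hdz _ k1
        have k3 : d * x0 * d⁻¹ = x0 := conj_eq_of_comm (hsf x0 hx0)
        have k4 : d * (x0 * y' * x0⁻¹ * y'⁻¹) * d⁻¹ =
            (d * x0 * d⁻¹) * (d * y' * d⁻¹) * (d * x0 * d⁻¹)⁻¹ * (d * y' * d⁻¹)⁻¹ := by group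
        rw [k4, k3] at k2
        -- `[x0, y''] = [x0, y'] =: ρ`
        set y'' := d * y' * d⁻¹ with hy''
        set ρ := x0 * y' * x0⁻¹ * y'⁻¹ with hρ
        have l1 : x0 * y' * x0⁻¹ = ρ * y' := by rw [hρ]; group
        have l2 : x0 * y'' * x0⁻¹ = ρ * y'' := by rw [← k2]; group
        have l3 : ρ * (y'' * y'⁻¹) = (y'' * y'⁻¹) * ρ := hza ρ k1 _ (hbU _ (h.w0_le hab.symm hm))
        have l4 : x0 * (y'' * y'⁻¹) * x0⁻¹ = y'' * y'⁻¹ := by
          calc x0 * (y'' * y'⁻¹) * x0⁻¹ = (x0 * y'' * x0⁻¹) * (x0 * y' * x0⁻¹)⁻¹ := by group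
            _ = (ρ * y'') * (ρ * y')⁻¹ := by rw [l1, l2]
            _ = ρ * (y'' * y'⁻¹) * ρ⁻¹ := by group
            _ = y'' * y'⁻¹ := by rw [l3]; group
        exact (comm_of_conj_eq l4).symm
      exact comm_mul_of c1 c2
    obtain ⟨g, -, hga, hge⟩ := h.cent_w0 (h.j1 _ _ _ ht') hm hc
    exact h.fr.line_le_ws hga hge
  have hm : d * y * d⁻¹ * y⁻¹ ∈ w0 V s a := mul_mem (conj_mem_w0' hds hda hy) (inv_mem hy)
  refine h.cent_w0 hs hm ?_
  intro x hx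
  obtain ⟨x0, hx0, q, hq, hqu, rfl⟩ := h.ws_eq hab.symm hx
  have hsU : ∀ w ∈ ws V s, w ∈ uu V a := fun w hw => ws_le_uu hs.1.symm hw
  have c2 : (d * y * d⁻¹ * y⁻¹) * q = q * (d * y * d⁻¹ * y⁻¹) := hqu _ (hsU _ (h.w0_le hs.1 hm))
  have c1 : (d * y * d⁻¹ * y⁻¹) * x0 = x0 * (d * y * d⁻¹ * y⁻¹) := by
    have k1 := hcomm s hs.1.symm y (h.w0_le hs.1 hy) x0 (h.w0_le hab.symm hx0)
    have k2 := hdz _ k1
    have k4 : d * (y * x0 * y⁻¹ * x0⁻¹) * d⁻¹ =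
        (d * y * d⁻¹) * (d * x0 * d⁻¹) * (d * y * d⁻¹)⁻¹ * (d * x0 * d⁻¹)⁻¹ := by group
    rw [k4] at k2
    have k5 := step1 x0 hx0
    set e' := d * x0 * d⁻¹ * x0⁻¹ with he'
    have k6 : d * x0 * d⁻¹ = e' * x0 := by rw [he']; group
    set Y := d * y * d⁻¹ with hY
    have hYU : Y ∈ uu V a := hsU _ (h.w0_le hs.1 (conj_mem_w0' hds hda hy))
    have k7 : Y * e' = e' * Y := uu_comm_ws ht hYU k5
    rw [k6] at k2
    -- `[Y, e' x0] = [Y, x0]` up to conjugation by `e'`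
    have k8 : Y * (e' * x0) * Y⁻¹ * (e' * x0)⁻¹ = e' * (Y * x0 * Y⁻¹ * x0⁻¹) * e'⁻¹ := by
      calc Y * (e' * x0) * Y⁻¹ * (e' * x0)⁻¹ = (Y * e') * x0 * Y⁻¹ * x0⁻¹ * e'⁻¹ := by group
        _ = (e' * Y) * x0 * Y⁻¹ * x0⁻¹ * e'⁻¹ := by rw [k7]
        _ = e' * (Y * x0 * Y⁻¹ * x0⁻¹) * e'⁻¹ := by group
    rw [k8] at k2
    have k9 : Y * x0 * Y⁻¹ * x0⁻¹ ∈ zpowers a :=
      hcomm s hs.1.symm Y (h.w0_le hs.1 (conj_mem_w0' hds hda hy)) x0 (h.w0_le hab.symm hx0)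
    have k10 : e' * (Y * x0 * Y⁻¹ * x0⁻¹) * e'⁻¹ = Y * x0 * Y⁻¹ * x0⁻¹ := by
      have := hza _ k9 e' (ws_le_uu hs.1.right k5)
      rw [← this]; group
    rw [k10] at k2
    set ρ := y * x0 * y⁻¹ * x0⁻¹ with hρ
    have l1 : x0 * y * x0⁻¹ = ρ⁻¹ * y := by rw [hρ]; group
    have l2 : x0 * Y * x0⁻¹ = ρ⁻¹ * Y := by rw [← k2]; group
    have l3 : ρ * (Y * y⁻¹) = (Y * y⁻¹) * ρ := hza ρ k1 _ (hsU _ (h.w0_le hs.1 hm))
    have l4 : x0 * (Y * y⁻¹) * x0⁻¹ = Y * y⁻¹ := by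
      calc x0 * (Y * y⁻¹) * x0⁻¹ = (x0 * Y * x0⁻¹) * (x0 * y * x0⁻¹)⁻¹ := by group
        _ = (ρ⁻¹ * Y) * (ρ⁻¹ * y)⁻¹ := by rw [l1, l2]
        _ = ρ⁻¹ * ((Y * y⁻¹) * ρ) := by group
        _ = Y * y⁻¹ := by rw [← l3]; group
    exact (comm_of_conj_eq l4).symm
  exact comm_mul_of c1 c2

/-- `d = (τ σ)⁻¹ (σ τ)` centralises `W_q⁰` if `σ`, `τ` are trivial on `Q_q` -/
theorem comm_d (h : HyA T V z) {q σ τ : G} (hj : Jn V r q b) (hσq : σ * q = q * σ) (hσr : σ * r = r * σ)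
    (hτq : τ * q = q * τ) (hτr : τ * r = r * τ) (hσ : Tr0 V q r σ) (hτ : Tr0 V q r τ) {y : G}
    (hy : y ∈ w0 V q r) : (τ * σ)⁻¹ * (σ * τ) * y = y * ((τ * σ)⁻¹ * (σ * τ)) := by
  have ht := h.toTyN
  -- elements of the line commute with `x ∈ C(q) ∩ C(r)`
  have hline : ∀ e ∈ w0 V q r, (∀ u ∈ uu V r, e * u = u * e) → ∀ x, x * q = q * x → x * r = r * x → x * e = e * x := by
    intro e he hc x hxq hxr
    obtain ⟨g, hgq, hgr, hge⟩ := h.cent_w0 hj he fun x hx => hc x (ws_le_uu hj.2.1 hx)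
    obtain ⟨k, -, -, hf⟩ := h.fr.flag hgq hj.1.ne_one
    rcases hf.ln.four hgq hgr hj.1.ne_one hj.1.symm.ne_one (hj.ne_left ht) hge with e' | e' | e' | e' <;> rw [e']
    · simp
    · exact hxq
    · exact hxr
    · exact comm_mul_of hxq hxr
  have eσ : σ * y * σ⁻¹ * y⁻¹ ∈ w0 V q r := mul_mem (conj_mem_w0' hσq hσr hy) (inv_mem hy)
  have eτ : τ * y * τ⁻¹ * y⁻¹ ∈ w0 V q r := mul_mem (conj_mem_w0' hτq hτr hy) (inv_mem hy)
  set s := σ * y * σ⁻¹ * y⁻¹ with hs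
  set t := τ * y * τ⁻¹ * y⁻¹ with htd
  have hsτ : τ * s = s * τ := hline s eσ (fun u hu => hσ y hy u hu) τ hτq hτr
  have htσ : σ * t = t * σ := hline t eτ (fun u hu => hτ y hy u hu) σ hσq hσr
  have hst : s * t = t * s := comm_ws ht hj.1.left (h.w0_le hj.1 eσ) (h.w0_le hj.1 eτ)
  have e1 : σ * y * σ⁻¹ = s * y := by rw [hs]; group
  have e2 : τ * y * τ⁻¹ = t * y := by rw [htd]; group
  have f1 : (σ * τ) * y * (σ * τ)⁻¹ = t * s * y := by
    calc (σ * τ) * y * (σ * τ)⁻¹ = σ * (τ * y * τ⁻¹) * σ⁻¹ := by group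
      _ = (σ * t) * y * σ⁻¹ := by rw [e2]; group
      _ = t * (σ * y * σ⁻¹) := by rw [htσ]; group
      _ = t * (s * y) := by rw [e1]
      _ = t * s * y := (mul_assoc t s y).symm
  have f2 : (τ * σ) * y * (τ * σ)⁻¹ = t * s * y := by
    calc (τ * σ) * y * (τ * σ)⁻¹ = τ * (σ * y * σ⁻¹) * τ⁻¹ := by group
      _ = (τ * s) * y * τ⁻¹ := by rw [e1]; group
      _ = s * (τ * y * τ⁻¹) := by rw [hsτ]; group
      _ = s * (t * y) := by rw [e2]
      _ = (s * t) * y := (mul_assoc s t y).symm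
      _ = t * s * y := by rw [hst]
  have f3 : (σ * τ) * y * (σ * τ)⁻¹ = (τ * σ) * y * (τ * σ)⁻¹ := f1.trans f2.symm
  calc (τ * σ)⁻¹ * (σ * τ) * y = (τ * σ)⁻¹ * ((σ * τ) * y * (σ * τ)⁻¹) * (σ * τ) := by group
    _ = (τ * σ)⁻¹ * ((τ * σ) * y * (τ * σ)⁻¹) * (σ * τ) := by rw [f3]
    _ = y * ((τ * σ)⁻¹ * (σ * τ)) := by group

/-- the final contradiction -/
theorem contra (h : HyA T V z) (hj : Jn V a r b) : False := by
  have ht := h.toTyN
  have hra : Col V r a := hj.1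
  have har : Col V a r := hra.symm
  have hne : r ≠ a := hj.ne_left ht
  obtain ⟨p1, hp1, p2, hp2, n1, n2, n3⟩ := h.exists_two hj
  have hw := h.w0_le hra
  have s1 := sq_ws ht hra.left (hw hp1)
  have s2 := sq_ws ht hra.left (hw hp2)
  have hc12 := comm_ws ht hra.left (hw hp1) (hw hp2)
  -- the line through `a`, `r`
  obtain ⟨g, hgr, hga, hr1, ha1⟩ := id hra
  obtain ⟨k, hk, -, hf⟩ := h.fr.flag hgr hr1
  have h4 : Nat.card (cj g V) = 4 := hf.ln.card_V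
  have hbu : ∀ x ∈ ws V b, x ∈ uu V a := fun x hx => ws_le_uu hj.2.1 hx
  have hLc : cj g V ≤ centralizer (ws V b : Set G) := by
    intro x hx
    rw [mem_centralizer_iff]
    intro y hy
    exact uu_comm_ws ht (hbu y hy) (h.fr.line_le_ws hga hx)
  have hLw : cj g V ≤ w0 V r a := by
    intro x hx
    rcases hf.ln.four hgr hga hr1 ha1 hne hx with e | e | e | e <;> rw [e]
    · exact one_mem _
    · exact a_mem_w0
    · exact r_mem_w0
    · exact mul_mem a_mem_w0 r_mem_w0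
  have nL1 : p1 ∉ cj g V := fun e => n1 (hLc e)
  have nL2 : p2 ∉ cj g V := fun e => n2 (hLc e)
  have nL3 : p1 * p2 ∉ cj g V := fun e => n3 (hLc e)
  have hjp : ∀ x ∈ w0 V r a, x ∉ cj g V → Jn V r a x := by
    intro x hx hn
    rcases h.mem_w0 hra hx with e | e | e | e | e
    · exact absurd (e ▸ one_mem _) hn
    · exact absurd (e ▸ hgr) hn
    · exact absurd (e ▸ hga) hn
    · exact absurd (e ▸ mul_mem hga hgr) hn
    · exact e
  obtain ⟨σ, hσa, hσr, hσt, hσt', hσx, x1, hx1, hx1m⟩ := h.exists_elt (hjp p1 hp1 nL1)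
  obtain ⟨τ, hτa, hτr, hτt, hτt', hτx, x2, hx2, hx2m⟩ := h.exists_elt (hjp p2 hp2 nL2)
  have hp1n : p1 ≠ 1 := fun e => nL1 (e ▸ one_mem _)
  have hp2n : p2 ≠ 1 := fun e => nL2 (e ▸ one_mem _)
  have hcard : Nat.card (w0 V r a) ≤ 16 := h.card_le hj
  -- an element fixing `a`, `r`, `p1`, `p2` fixes `W_r⁰`
  have hfix : ∀ ρ : G, ρ * a = a * ρ → ρ * r = r * ρ → ρ * p1 = p1 * ρ → ρ * p2 = p2 * ρ →
      ∀ x ∈ w0 V r a, ρ * x = x * ρ := by
    intro ρ ra rr r1 r2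
    set K : Subgroup G := w0 V r a ⊓ centralizer ({ρ} : Set G) with hK
    have hLK : cj g V ≤ K := by
      intro x hx
      refine mem_inf.mpr ⟨hLw hx, mem_centralizer_singleton_iff.mpr ?_⟩
      rcases hf.ln.four hgr hga hr1 ha1 hne hx with e | e | e | e <;> rw [e]
      · simp
      · exact rr.symm
      · exact ra.symm
      · exact mul_comm_of rr.symm ra.symm
    have k1 : p1 ∈ K := mem_inf.mpr ⟨hp1, mem_centralizer_singleton_iff.mpr r1.symm⟩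
    have k2 : p2 ∈ K := mem_inf.mpr ⟨hp2, mem_centralizer_singleton_iff.mpr r2.symm⟩
    have h1 := four_mul_le hLK k1 k2 s1 hc12 s2 nL1 nL2 nL3
    have h2 : K = w0 V r a := by
      refine Subgroup.eq_of_le_of_card_ge inf_le_left ?_
      rw [h4] at h1
      omega
    intro x hx
    rw [← h2] at hx
    exact (mem_centralizer_singleton_iff.mp (mem_inf.mp hx).2).symm
  have hσ1 : σ * p1 * σ⁻¹ = p1 := by
    rcases hσx p1 hp1 with e | e
    · exact e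
    · exact absurd (conj_eq_one_iff.mp (e.trans s1)) hp1n
  have hτ2 : τ * p2 * τ⁻¹ = p2 := by
    rcases hτx p2 hp2 with e | e
    · exact e
    · exact absurd (conj_eq_one_iff.mp (e.trans s2)) hp2n
  have hσ2 : σ * p2 * σ⁻¹ = p1 * p2 := by
    rcases hσx p2 hp2 with e | e
    · exact absurd (conj_eq_of_comm (hfix σ hσa hσr (comm_of_conj_eq hσ1) (comm_of_conj_eq e) x1 hx1)) hx1m
    · exact e
  have hτ1 : τ * p1 * τ⁻¹ = p2 * p1 := by
    rcases hτx p1 hp1 with e | e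
    · exact absurd (conj_eq_of_comm (hfix τ hτa hτr (comm_of_conj_eq e) (comm_of_conj_eq hτ2) x2 hx2)) hx2m
    · exact e
  set d := (τ * σ)⁻¹ * (σ * τ) with hd
  -- `d` on `p1`
  have hd1 : d * p1 * d⁻¹ = p1 * p2 := by
    have e1 : (σ * τ) * p1 * (σ * τ)⁻¹ = p2 := by
      calc (σ * τ) * p1 * (σ * τ)⁻¹ = σ * (τ * p1 * τ⁻¹) * σ⁻¹ := by group
        _ = (σ * p2 * σ⁻¹) * (σ * p1 * σ⁻¹) := by rw [hτ1]; group
        _ = p2 * (p1 * p1) := by rw [hσ2, hσ1, hc12, mul_assoc]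
        _ = p2 := by rw [s1, mul_one]
    have e0 : p1 * (p1 * p2) = p2 := by rw [← mul_assoc, s1, one_mul]
    have e2 : (τ * σ) * (p1 * p2) * (τ * σ)⁻¹ = p2 := by
      calc (τ * σ) * (p1 * p2) * (τ * σ)⁻¹ = τ * ((σ * p1 * σ⁻¹) * (σ * p2 * σ⁻¹)) * τ⁻¹ := by group
        _ = τ * (p1 * (p1 * p2)) * τ⁻¹ := by rw [hσ1, hσ2]
        _ = p2 := by rw [e0, hτ2]
    calc d * p1 * d⁻¹ = (τ * σ)⁻¹ * ((σ * τ) * p1 * (σ * τ)⁻¹) * (τ * σ) := by rw [hd]; group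
      _ = (τ * σ)⁻¹ * ((τ * σ) * (p1 * p2) * (τ * σ)⁻¹) * (τ * σ) := by rw [e1, e2]
      _ = p1 * p2 := by group
  -- `d` centralises `W_a⁰`, `W_{ar}⁰`
  have hjn : ∃ q, Jn V r a q := ⟨p1, hjp p1 hp1 nL1⟩
  obtain ⟨q, hq⟩ := hjn
  have hσar : σ * (a * r) = (a * r) * σ := comm_mul_of hσa hσr
  have hτar : τ * (a * r) = (a * r) * τ := comm_mul_of hτa hτr
  have hda : ∀ y ∈ w0 V a r, d * y = y * d := fun y hy => h.comm_d hq hσa hσr hτa hτr hσt hτt hy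
  have hdar : ∀ y ∈ w0 V (a * r) r, d * y = y * d := fun y hy =>
    h.comm_d (hq.shift_left ht) hσar hσr hτar hτr hσt' hτt' hy
  -- the pairing at `a`
  have hjar : Jn V a (a * r) b := by
    have := hj.shift_left ht
    rwa [h.fr.col_comm hra] at this
  have hcar : Col V (a * r) r := (hq.shift_left ht).1
  have hrne : r ≠ a * r := fun e => ha1 (by simpa using e)
  have hshift : w0 V (a * r) a = w0 V (a * r) r := by
    have := h.w0_shift hcar hrne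
    have e : r * (a * r) = a := by rw [h.fr.col_comm hcar.symm, mul_mul_cancel_pt ht hra]
    rwa [e] at this
  obtain ⟨m, hmr, hma, hmd⟩ := h.pairing (s := r) (t := a * r) (b := b) (d := d) hj hjar
    (hda a a_mem_w0) (hda b (jn_mem_w0 hj)) (hda r r_mem_w0)
    (fun y hy => hdar y (by rwa [← hshift])) hp1
  have e3 : d * p1 * d⁻¹ * p1⁻¹ = p2 := by
    rw [hd1, hc12]; group
  rw [e3] at hmd
  apply n2
  rw [mem_centralizer_iff]
  intro y hy
  exact uu_comm_ws ht (hbu y hy) (h.fr.line_le_ws hma hmd)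

end HyA

/-- **(A1) is impossible.** -/
theorem a1 [Finite G] (h : Hy T V z) (hm : Mid T V z c p r) (hj : Jn V p r c) : False := by
  have hA : HyA T V z := { h with cr := fun s a b hab => h.crit_of_jn hm hj hab }
  exact hA.contra hj

end Cfsg.Agent.Omega.NO3S.TypeN
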