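import Cfsg.Agent.Omega.NO3S.TypeN.Comp

/-!
# NO-3S, `|V| = 4`, `n = 2`, TYPE N: case (A1) (helper60, bb #16001, sections 5, 6)

`HyA` : `Hy`, and all joined pairs are critical.

* `HyA.exists_two` : dihedral: `W_a⁰ / C(W_b)` has order at least 4;
* `HyA.card_le` : `|W_a⁰| ≤ 16`; `HyA.cent_w0` : `C_{W_a⁰}(W_b) = ⟨a, r⟩`;
* `HyA.exists_elt` : the element `w₀`;
* `HyA.false`, `a1`.
-/

set_option autoImplicit false
set_option linter.unusedSectionVars false

namespace Cfsg.Agent.Omega.NO3S.TypeN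

open Subgroup Cfsg Cfsg.Agent.ZN Cfsg.Agent.MinSimple.Geo Cfsg.Agent.Omega.CaseL Cfsg.Agent.Omega.NO3S.TwoOne
  Cfsg.Agent.Omega.NO3S.Pt Cfsg.Agent.Omega.NO3S.TwoMid
open Cfsg.Agent.ZN.Block (conj_mem_of_normalizer conj_mem_of_normalizer' le_normalizer_of_forall
  mem_normalizer_of)

universe u

variable {G : Type u} [Group G] {T V : Subgroup G} {z : G} {a b c e p r x y : G}

/-! ### counting -/

theorem card_sub {A B : Subgroup G} (hBA : B ≤ A) : Nat.card A = Nat.card (A ⧸ B.subgroupOf A) * Nat.card B := by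
  have h1 := Subgroup.card_eq_card_quotient_mul_card_subgroup (B.subgroupOf A)
  rw [h1, Nat.card_congr (Subgroup.subgroupOfEquivOfLe hBA).toEquiv]

theorem card_le_mul [Finite G] {ι : Type*} {A B : Subgroup G} (hBA : B ≤ A) (f : G → ι) (S : Finset ι)
    (hf : ∀ x ∈ A, f x ∈ S) (hinj : ∀ x ∈ A, ∀ y ∈ A, f x = f y → x⁻¹ * y ∈ B) :
    Nat.card A ≤ S.card * Nat.card B := by
  classical
  rw [card_sub hBA]
  refine Nat.mul_le_mul_right _ ?_
  have h1 : Nat.card {x // x ∈ S} = S.card := by simp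
  rw [← h1]
  refine Nat.card_le_card_of_injective (fun q : A ⧸ B.subgroupOf A => (⟨f (q.out : G), hf _ q.out.2⟩ : {x // x ∈ S})) ?_
  intro q q' e
  have h2 := hinj _ q.out.2 _ q'.out.2 (congrArg Subtype.val e)
  rw [← QuotientGroup.out_eq' q, ← QuotientGroup.out_eq' q', QuotientGroup.eq]
  exact mem_subgroupOf.mpr h2

theorem card_mul_le [Finite G] {A H : Subgroup G} (hHA : H ≤ A) (S : Finset G) (hS : ∀ x ∈ S, x ∈ A)
    (hinj : ∀ x ∈ S, ∀ y ∈ S, x⁻¹ * y ∈ H → x = y) : S.card * Nat.card H ≤ Nat.card A := by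
  classical
  rw [card_sub hHA]
  refine Nat.mul_le_mul_right _ ?_
  have h1 : Nat.card {x // x ∈ S} = S.card := by simp
  rw [← h1]
  refine Nat.card_le_card_of_injective (fun s : {x // x ∈ S} => ((⟨s, hS s s.2⟩ : A) : A ⧸ H.subgroupOf A)) ?_
  rintro ⟨s, hs⟩ ⟨t, ht⟩ e
  have h2 := QuotientGroup.eq.mp e
  exact Subtype.ext (hinj s hs t ht (mem_subgroupOf.mp h2))

/-- all joined pairs are critical -/
structure HyA (T V : Subgroup G) (z : G) : Prop extends Hy T V z where
  cr : ∀ r a b, Jn V r a b → Mid T V z a r b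

namespace HyA

variable [Finite G]

/-- dihedral: for `a`, `b` joined at `r` some `g` with `a^g = b`, `b^g = a`, `y` commutes with `g y g⁻¹` -/
theorem dih (h : HyA T V z) (hj : Jn V r a b) : ∃ g, g * a * g⁻¹ = b ∧ g * b * g⁻¹ = a ∧
    ∀ y ∈ ws V a, y * (g * y * g⁻¹) = (g * y * g⁻¹) * y := by
  have ht := h.toTyN
  have hr := hj.1.right
  have har := h.fr.mem_ws_of_col hj.1.symm
  have hbr := h.fr.mem_ws_of_col hj.2.1
  have haa : a * a = 1 := sq_pt ht hj.1
  have hbb : b * b = 1 := sq_pt ht hj.2.1.symm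
  have cab : a * b = b * a := comm_ws ht hr har hbr
  have he : Jn V r (a * b) a := h.j1 _ _ _ (hj.self_mul ht)
  obtain ⟨-, -, g, hg, hga⟩ := id he
  have hga' : g * a * g⁻¹ = b := by
    rw [hga, cab, mul_assoc, haa, mul_one]
  have hge : g * (a * b) * g⁻¹ = a * b := conj_eq_of_comm (uu_comm_ws ht hg (h.fr.mem_ws_self he.1.left))
  have hgb : g * b * g⁻¹ = a := by
    have e1 : g * (a * b) * g⁻¹ = (g * a * g⁻¹) * (g * b * g⁻¹) := by group
    rw [e1, hga', cab] at hge
    exact mul_left_cancel hge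
  refine ⟨g, hga', hgb, fun y hy => ?_⟩
  have h1 := h.dihedral (a := a) (r := r) (p := a * b) hj.1 he.1.symm ?_ hg hy
  · have hyy : y⁻¹ = y := inv_eq_self (sq_ws ht hj.1.left hy)
    have e2 : g * y * g⁻¹ = (y * g * y⁻¹ * g⁻¹)⁻¹ * y := by
      calc g * y * g⁻¹ = g * y⁻¹⁻¹ * g⁻¹ := by rw [inv_inv]
        _ = g * y⁻¹ * g⁻¹ := by rw [inv_inv, hyy]
        _ = (y * g * y⁻¹ * g⁻¹)⁻¹ * y := by
          have : (y * g * y⁻¹ * g⁻¹)⁻¹ * y = g * y * g⁻¹ * (y⁻¹ * y) := by group
          rw [this, inv_mul_cancel, mul_one, hyy]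
    rw [e2]
    have h2 : y * (y * g * y⁻¹ * g⁻¹)⁻¹ = (y * g * y⁻¹ * g⁻¹)⁻¹ * y := comm_inv_of h1
    calc y * ((y * g * y⁻¹ * g⁻¹)⁻¹ * y) = (y * (y * g * y⁻¹ * g⁻¹)⁻¹) * y := by group
      _ = (y * g * y⁻¹ * g⁻¹)⁻¹ * y * y := by rw [h2]
  · intro e'
    exact (he.ne_left ht) e'

/-- `W_a⁰ / C(W_b)` has order at least 4 -/
theorem exists_two (h : HyA T V z) (hj : Jn V r a b) : ∃ y₁ ∈ w0 V a r, ∃ y₂ ∈ w0 V a r,
    y₁ ∉ centralizer (ws V b : Set G) ∧ y₂ ∉ centralizer (ws V b : Set G) ∧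
      y₁ * y₂ ∉ centralizer (ws V b : Set G) := by
  have ht := h.toTyN
  have hm := h.cr _ _ _ hj
  obtain ⟨g, hga, hgb, hgy⟩ := h.dih hj
  have hga' : ∀ x ∈ ws V a, g * x * g⁻¹ ∈ ws V b := fun x hx => by
    have := conj_mem_ws g hx; rwa [hga] at this
  have hgb' : ∀ x ∈ ws V b, g⁻¹ * x * g ∈ ws V a := fun x hx => by
    have h1 := conj_mem_ws g⁻¹ hx
    have e : g⁻¹ * b * g⁻¹⁻¹ = a := by rw [← hga]; group
    rwa [e, inv_inv] at h1
  have hgb'' : ∀ x ∈ ws V a, g⁻¹ * x * g ∈ ws V b := fun x hx => by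
    have h1 := conj_mem_ws g⁻¹ hx
    have e : g⁻¹ * a * g⁻¹⁻¹ = b := by
      calc g⁻¹ * a * g⁻¹⁻¹ = g⁻¹ * (g * b * g⁻¹) * g⁻¹⁻¹ := by rw [hgb]
        _ = b := by group
    rwa [e, inv_inv] at h1
  -- some `y ∈ W_a⁰` does not centralise `W_b`
  obtain ⟨y, hy, hyn⟩ : ∃ y ∈ ws V a, y ∉ centralizer (ws V b : Set G) := by
    by_contra hcon
    push Not at hcon
    exact hm.ne fun x hx w hw => (mem_centralizer_iff.mp (hcon x hx) w hw).symm
  have step : ∃ x ∈ ws V a, x ∉ centralizer (ws V b : Set G) ∧ y * x ∉ centralizer (ws V b : Set G) := by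
    by_contra hcon
    push Not at hcon
    apply hyn
    rw [mem_centralizer_iff]
    intro x' hx'
    have hx := hgb' x' hx'
    set x := g⁻¹ * x' * g with hxd
    have ex : x' = g * x * g⁻¹ := by rw [hxd]; group
    -- `x` in the centraliser: then `g x g⁻¹ ∈ C(W_a)`
    have key : ∀ x ∈ ws V a, x ∈ centralizer (ws V b : Set G) → y * (g * x * g⁻¹) = (g * x * g⁻¹) * y := by
      intro x hx hxc
      have h1 := mem_centralizer_iff.mp hxc _ (hgb'' y hy)
      calc y * (g * x * g⁻¹) = g * ((g⁻¹ * y * g) * x) * g⁻¹ := by group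
        _ = g * (x * (g⁻¹ * y * g)) * g⁻¹ := by rw [h1]
        _ = (g * x * g⁻¹) * y := by group
    by_cases hxc : x ∈ centralizer (ws V b : Set G)
    · rw [ex]; exact (key x hx hxc).symm
    · have h1 := key (y * x) (mul_mem hy hx) (hcon x hx hxc)
      have h2 := hgy y hy
      have e1 : g * x * g⁻¹ = (g * y * g⁻¹)⁻¹ * (g * (y * x) * g⁻¹) := by group
      rw [ex, e1]
      exact (comm_mul_of (comm_inv_of h2) h1).symm
  obtain ⟨x, hx, hxn, hyxn⟩ := step
  -- pass to `W_a⁰`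
  obtain ⟨y1, hy1, s1, hs1, hs1u, rfl⟩ := h.ws_eq hj.1 hy
  obtain ⟨y2, hy2, s2, hs2, hs2u, rfl⟩ := h.ws_eq hj.1 hx
  have hbu : ∀ x ∈ ws V b, x ∈ uu V r := fun x hx => ws_le_uu hj.2.1 hx
  have hc1 : s1 ∈ centralizer (ws V b : Set G) := mem_centralizer_iff.mpr fun x hx => hs1u x (hbu x hx)
  have hc2 : s2 ∈ centralizer (ws V b : Set G) := mem_centralizer_iff.mpr fun x hx => hs2u x (hbu x hx)
  refine ⟨y1, hy1, y2, hy2, fun e => hyn (mul_mem e hc1), fun e => hxn (mul_mem e hc2), fun e => hyxn ?_⟩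
  have e1 : y1 * s1 * (y2 * s2) = y1 * y2 * (s1 * s2) := by
    have := comm_ws ht hj.1.left hs1 (h.w0_le hj.1 hy2)
    calc y1 * s1 * (y2 * s2) = y1 * (s1 * y2) * s2 := by group
      _ = y1 * y2 * (s1 * s2) := by rw [this]; group
  rw [e1]
  exact mul_mem e (mul_mem hc1 hc2)

/-- a point where two functionals differ -/
theorem exists_pt (_ : HyA T V z) (hpr : Col V p r) {w w' : G}
    (hne : ∃ y ∈ ws V r, w * y * w⁻¹ ≠ w' * y * w'⁻¹) : ∃ a, Col V r a ∧ w * a * w⁻¹ ≠ w' * a * w'⁻¹ := by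
  obtain ⟨y, hy, hne⟩ := hne
  by_contra hcon
  push Not at hcon
  let A : Subgroup G :=
    { carrier := {g | w * g * w⁻¹ = w' * g * w'⁻¹}
      mul_mem' := by
        intro g g' hg hg'
        simp only [Set.mem_ofPred_eq] at hg hg' ⊢
        calc w * (g * g') * w⁻¹ = (w * g * w⁻¹) * (w * g' * w⁻¹) := by group
          _ = (w' * g * w'⁻¹) * (w' * g' * w'⁻¹) := by rw [hg, hg']
          _ = w' * (g * g') * w'⁻¹ := by group
      one_mem' := by simp
      inv_mem' := by
        intro g hg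
        simp only [Set.mem_ofPred_eq] at hg ⊢
        calc w * g⁻¹ * w⁻¹ = (w * g * w⁻¹)⁻¹ := by group
          _ = (w' * g * w'⁻¹)⁻¹ := by rw [hg]
          _ = w' * g⁻¹ * w'⁻¹ := by group }
  have hA : ws V r ≤ A := by
    refine ws_le fun L hL => ?_
    obtain ⟨⟨g, rfl⟩, hr⟩ := hL
    intro g' hg'
    by_cases h5 : g' = 1
    · rw [h5]; exact A.one_mem
    · exact hcon g' ⟨g, hr, hg', hpr.symm.ne_one, h5⟩
  exact hne (hA hy)

/-- the configuration `c ~ p ~ r ~ a`, `w, w₀ ∈ W_c⁰` -/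
structure Cfg (T V : Subgroup G) (z c p r a w v x : G) : Prop where
  cr : Jn V p r c
  pa : Jn V r p a
  hw : w ∈ w0 V c p
  hv : v ∈ w0 V c p
  hx : x ∈ ws V r
  wa : w * a * w⁻¹ = p * a
  va : v * a = a * v
  vx : v * x * v⁻¹ = p * x

theorem exists_cfg (h : HyA T V z) (hj : Jn V r a b) : ∃ c p r a w v x, Cfg T V z c p r a w v x := by
  have ht := h.toTyN
  -- rename: the pair `(c, r)` joined at `p`
  have hj' := h.j1 _ _ _ hj
  obtain ⟨y1, hy1, y2, hy2, hn1, hn2, hn3⟩ := h.exists_two hj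
  have hu1 : y1 ∈ uu V r := ws_le_uu hj.1.symm (h.w0_le hj.1 hy1)
  have hu2 : y2 ∈ uu V r := ws_le_uu hj.1.symm (h.w0_le hj.1 hy2)
  have hact : ∀ g ∈ uu V r, ∀ y ∈ ws V b, g * y * g⁻¹ = y ∨ g * y * g⁻¹ = r * y :=
    fun g hg y hy => act ht hj.2.1 hg hy
  have hmv : ∀ g, g ∉ centralizer (ws V b : Set G) → ∃ x ∈ ws V b, g * x * g⁻¹ ≠ x := by
    intro g hg
    by_contra hcon
    push Not at hcon
    exact hg (mem_centralizer_iff.mpr fun x hx => (comm_of_conj_eq (hcon x hx)).symm)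
  have hdiff : ∃ y ∈ ws V b, y1 * y * y1⁻¹ ≠ y2 * y * y2⁻¹ := by
    by_contra hcon
    push Not at hcon
    apply hn3
    rw [mem_centralizer_iff]
    intro x hx
    have hr' : y1 * r * y1⁻¹ = r := conj_eq_of_comm (uu_comm_ws ht hu1 (h.fr.mem_ws_self hj.1.right))
    have hrr : r * r = 1 := sq_pt ht hj.2.1
    have hrb := h.fr.mem_ws_of_col hj.2.1.symm
    have e : y1 * y2 * x * (y1 * y2)⁻¹ = x := by
      calc y1 * y2 * x * (y1 * y2)⁻¹ = y1 * (y2 * x * y2⁻¹) * y1⁻¹ := by group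
        _ = x := by
          rw [← hcon x hx]
          rcases hact y1 hu1 x hx with e1 | e1
          · rw [e1, e1]
          · rw [e1]
            calc y1 * (r * x) * y1⁻¹ = (y1 * r * y1⁻¹) * (y1 * x * y1⁻¹) := by group
              _ = (r * r) * x := by rw [hr', e1, mul_assoc]
              _ = x := by rw [hrr, one_mul]
    exact (comm_of_conj_eq e).symm
  obtain ⟨q, hq, hqne⟩ := h.exists_pt hj.2.1 hdiff
  have hqw := h.fr.mem_ws_of_col hq
  obtain ⟨x1, hx1, hx1n⟩ := hmv y1 hn1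
  obtain ⟨x2, hx2, hx2n⟩ := hmv y2 hn2
  rcases hact y1 hu1 q hqw with e1 | e1 <;> rcases hact y2 hu2 q hqw with e2 | e2
  · exact absurd (e1.trans e2.symm) hqne
  · exact ⟨a, r, b, q, y2, y1, x1, hj', ⟨hj.2.1, hq, y2, hu2, e2⟩, hy2, hy1, hx1, e2, comm_of_conj_eq e1,
      (hact y1 hu1 x1 hx1).resolve_left hx1n⟩
  · exact ⟨a, r, b, q, y1, y2, x2, hj', ⟨hj.2.1, hq, y1, hu1, e1⟩, hy1, hy2, hx2, e1, comm_of_conj_eq e2,
      (hact y2 hu2 x2 hx2).resolve_left hx2n⟩
  · exact absurd (e1.trans e2.symm) hqne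

section cfg

variable {w v : G}

theorem Cfg.w_mem (h : HyA T V z) (k : Cfg T V z c p r a w v x) : w ∈ uu V p :=
  ws_le_uu k.cr.2.1 (h.w0_le k.cr.2.1.symm k.hw)

theorem Cfg.v_mem (h : HyA T V z) (k : Cfg T V z c p r a w v x) : v ∈ uu V p :=
  ws_le_uu k.cr.2.1 (h.w0_le k.cr.2.1.symm k.hv)

/-- (5.1) `W_c⁰ ∩ U_r ≤ ⟨c, p⟩` -/
theorem inf_uu (h : HyA T V z) (hj : Jn V p r c) {x : G} (hx : x ∈ w0 V c p) (hxu : x ∈ uu V r) :
    x = 1 ∨ x = c ∨ x = p ∨ x = p * c := by
  have ht := h.toTyN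
  obtain ⟨hrp, hpc, t, htu, htc⟩ := id hj
  have hrr : r * r = 1 := sq_pt ht hrp
  have hcc : c * c = 1 := sq_pt ht hpc.symm
  have hpp : p * p = 1 := sq_pt ht hpc
  have htp : t * p * t⁻¹ = p := conj_eq_of_comm (uu_comm_ws ht htu (h.fr.mem_ws_of_col hrp))
  have htr : t * r * t⁻¹ = r := conj_eq_of_comm (uu_comm_ws ht htu (h.fr.mem_ws_self hrp.left))
  have hcp : c * p = p * c := comm_ws ht hpc.left (h.fr.mem_ws_of_col hpc) (h.fr.mem_ws_self hpc.left)
  have hrc : r * c = c * r := comm_ws ht hpc.left (h.fr.mem_ws_of_col hrp.symm) (h.fr.mem_ws_of_col hpc)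
  have hne : r ≠ 1 := hrp.ne_one
  -- an element commuting with `t`
  have key : ∀ x ∈ w0 V c p, t * x * t⁻¹ = x → x = 1 ∨ x = p := by
    intro x hx htx
    have hx' : x ∈ w0 V (r * c) p := by
      have := conj_mem_w0 t hx
      rwa [htx, htc, htp] at this
    have hcrc : Jn V p c (r * c) := h.mul_self' hj
    have hcol : Col V (r * c) p := hcrc.2.1.symm
    rcases h.mem_w0 hpc.symm hx with e | e | e | e | e
    · exact Or.inl e
    · exfalso
      rw [e, htc] at htx
      exact hne (by simpa using htx)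
    · exact Or.inr e
    · exfalso
      rw [e] at htx
      have : t * (p * c) * t⁻¹ = p * (r * c) := by
        calc t * (p * c) * t⁻¹ = (t * p * t⁻¹) * (t * c * t⁻¹) := by group
          _ = p * (r * c) := by rw [htp, htc]
      rw [this] at htx
      have := mul_left_cancel htx
      exact hne (by simpa using this)
    · rcases h.mem_w0 hcol hx' with e' | e' | e' | e' | e'
      · exact Or.inl e'
      · exfalso
        rw [e'] at htx
        have : t * (r * c) * t⁻¹ = c := by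
          calc t * (r * c) * t⁻¹ = (t * r * t⁻¹) * (t * c * t⁻¹) := by group
            _ = (r * r) * c := by rw [htr, htc, mul_assoc]
            _ = c := by rw [hrr, one_mul]
        rw [this] at htx
        exact hne (by simpa using htx.symm)
      · exact Or.inr e'
      · exfalso
        rw [e'] at htx
        have : t * (p * (r * c)) * t⁻¹ = p * c := by
          calc t * (p * (r * c)) * t⁻¹ = (t * p * t⁻¹) * ((t * r * t⁻¹) * (t * c * t⁻¹)) := by group
            _ = p * ((r * r) * c) := by rw [htp, htr, htc]; group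
            _ = p * c := by rw [hrr, one_mul]
        rw [this] at htx
        have := mul_left_cancel htx
        exact hne (by simpa using this.symm)
      · -- `x` is a common neighbour of `c` and `r c`
        exfalso
        have hm := h.cr _ _ _ hcrc
        have hm' : Mid T V z c x (r * c) :=
          { h.toTwo with pr := e.2.1, rq := e'.2.1.symm, ne := hm.ne }
        have := middle ht hm hm'
        exact (e.ne ht) this
  have hxcom : t * x * t⁻¹ * x⁻¹ ∈ zpowers r := h.uu_comm htu hxu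
  rcases (mem_zpowers_iff_of_mul_self hrr).mp hxcom with e | e
  · have e1 : t * x * t⁻¹ = x := by
      calc t * x * t⁻¹ = (t * x * t⁻¹ * x⁻¹) * x := by group
        _ = x := by rw [e, one_mul]
    rcases key x hx e1 with e2 | e2
    · exact Or.inl e2
    · exact Or.inr (Or.inr (Or.inl e2))
  · have e1 : t * x * t⁻¹ = r * x := by
      calc t * x * t⁻¹ = (t * x * t⁻¹ * x⁻¹) * x := by group
        _ = r * x := by rw [e]
    have hrx : r * x = x * r := by
      have := h.uu_le_cr r hxu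
      exact (mem_centralizer_singleton_iff.mp this).symm
    have e2 : t * (x * c) * t⁻¹ = x * c := by
      calc t * (x * c) * t⁻¹ = (t * x * t⁻¹) * (t * c * t⁻¹) := by group
        _ = (r * x) * (r * c) := by rw [e1, htc]
        _ = (x * r) * (r * c) := by rw [hrx]
        _ = x * (r * r) * c := by group
        _ = x * c := by rw [hrr, mul_one]
    have e3 : x = (x * c) * c := by rw [mul_assoc, hcc, mul_one]
    rcases key (x * c) (mul_mem hx a_mem_w0) e2 with e4 | e4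
    · right; left
      rw [e3, e4, one_mul]
    · right; right; right
      rw [e3, e4]

/-- (5.2) the kernel: an element of `W_a⁰` centralised by `w` -/
theorem fix_w (h : HyA T V z) (k : Cfg T V z c p r a w v x) {y : G} (hy : y ∈ w0 V a r) (hyw : w * y * w⁻¹ = y) :
    y = 1 ∨ y = r := by
  have ht := h.toTyN
  have hwp := k.w_mem h
  have hcol : Col V a r := k.pa.2.1.symm
  have hj := h.mul_self' k.pa
  have hwr : w * r * w⁻¹ = r := conj_eq_of_comm (uu_comm_ws ht hwp (h.fr.mem_ws_of_col k.pa.1))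
  have hwpp : w * p * w⁻¹ = p := conj_eq_of_comm (uu_comm_ws ht hwp (h.fr.mem_ws_self k.pa.1.left))
  have hp1 : p ≠ 1 := k.pa.1.ne_one
  have hpp : p * p = 1 := sq_pt ht k.pa.1
  have hy' : y ∈ w0 V (p * a) r := by
    have := conj_mem_w0 w hy
    rwa [hyw, k.wa, hwr] at this
  rcases h.mem_w0 hcol hy with e | e | e | e | e
  · exact Or.inl e
  · exfalso
    rw [e, k.wa] at hyw
    exact hp1 (by simpa using hyw)
  · exact Or.inr e
  · exfalso
    rw [e] at hyw
    have : w * (r * a) * w⁻¹ = r * (p * a) := by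
      calc w * (r * a) * w⁻¹ = (w * r * w⁻¹) * (w * a * w⁻¹) := by group
        _ = r * (p * a) := by rw [hwr, k.wa]
    rw [this] at hyw
    have := mul_left_cancel hyw
    exact hp1 (by simpa using this)
  · rcases h.mem_w0 hj.2.1.symm hy' with e' | e' | e' | e' | e'
    · exact Or.inl e'
    · exfalso
      rw [e'] at hyw
      have : w * (p * a) * w⁻¹ = a := by
        calc w * (p * a) * w⁻¹ = (w * p * w⁻¹) * (w * a * w⁻¹) := by group
          _ = (p * p) * a := by rw [hwpp, k.wa, mul_assoc]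
          _ = a := by rw [hpp, one_mul]
      rw [this] at hyw
      exact hp1 (by simpa using hyw.symm)
    · exact Or.inr e'
    · exfalso
      rw [e'] at hyw
      have : w * (r * (p * a)) * w⁻¹ = r * a := by
        calc w * (r * (p * a)) * w⁻¹ = (w * r * w⁻¹) * ((w * p * w⁻¹) * (w * a * w⁻¹)) := by group
          _ = r * ((p * p) * a) := by rw [hwr, hwpp, k.wa]; group
          _ = r * a := by rw [hpp, one_mul]
      rw [this] at hyw
      have := mul_left_cancel hyw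
      exact hp1 (by simpa using this.symm)
    · exfalso
      have hm := h.cr _ _ _ hj
      have hm' : Mid T V z a y (p * a) :=
        { h.toTwo with pr := e.2.1, rq := e'.2.1.symm, ne := hm.ne }
      have := middle ht hm hm'
      exact (e.ne ht) this

/-- `|W_a⁰| ≤ 16` for the configuration -/
theorem Cfg.card_le (h : HyA T V z) (k : Cfg T V z c p r a w v x) : Nat.card (w0 V a r) ≤ 16 := by
  classical
  have ht := h.toTyN
  have hcolar : Col V a r := k.pa.2.1.symm
  have hcolpc : Col V p c := k.cr.2.1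
  have hcolrp : Col V r p := k.cr.1
  have hrr : r * r = 1 := sq_pt ht hcolrp
  have hcc : c * c = 1 := sq_pt ht hcolpc.symm
  have hBu : ∀ y ∈ w0 V a r, y ∈ uu V r := fun y hy => ws_le_uu hcolar.symm (h.w0_le hcolar hy)
  -- first step: `C_{W_a⁰}(c)`
  set Y : Subgroup G := w0 V a r ⊓ centralizer ({c} : Set G) with hY
  have hYle : Y ≤ w0 V a r := inf_le_left
  have h1 : Nat.card (w0 V a r) ≤ ({c, r * c} : Finset G).card * Nat.card Y := by
    refine card_le_mul hYle (fun y => y⁻¹ * c * y) {c, r * c} ?_ ?_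
    · intro y hy
      have := act_crit ht hcolrp hcolpc (inv_mem (hBu y hy))
      rw [inv_inv] at this
      rcases this with e | e <;> simp [e]
    · intro y hy y' hy' e
      refine mem_inf.mpr ⟨mul_mem (inv_mem hy) hy', ?_⟩
      rw [mem_centralizer_singleton_iff]
      have hyy : y⁻¹ = y := inv_eq_self (sq_ws ht hcolar.left (h.w0_le hcolar hy))
      have hyy' : y'⁻¹ = y' := inv_eq_self (sq_ws ht hcolar.left (h.w0_le hcolar hy'))
      -- `y c y = y' c y'`
      have e0 : y * c * y = y' * c * y' := by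
        have : y⁻¹ * c * y = y'⁻¹ * c * y' := e
        rwa [hyy, hyy'] at this
      calc y⁻¹ * y' * c = y⁻¹ * (y' * c * y') * y'⁻¹ := by group
        _ = y⁻¹ * (y * c * y) * y'⁻¹ := by rw [e0]
        _ = c * (y * y'⁻¹) := by group
        _ = c * (y⁻¹ * y') := by rw [hyy, hyy']
  have h2 : ({c, r * c} : Finset G).card ≤ 2 := Finset.card_le_two
  -- second step: the kernel
  set K : Subgroup G := zpowers r with hK
  have hcK : Nat.card K = 2 := by
    rw [hK, Nat.card_zpowers]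
    exact orderOf_eq_prime (by rw [pow_two, hrr]) hcolrp.ne_one
  have hKY : K ≤ Y := by
    rw [hK, zpowers_le, hY]
    refine mem_inf.mpr ⟨r_mem_w0, mem_centralizer_singleton_iff.mpr ?_⟩
    exact comm_ws ht hcolpc.left (h.fr.mem_ws_of_col hcolrp.symm) (h.fr.mem_ws_of_col hcolpc)
  have hYc : ∀ y ∈ Y, y * c = c * y := fun y hy => mem_centralizer_singleton_iff.mp (mem_inf.mp hy).2
  have hYp : ∀ y ∈ Y, y * p = p * y := fun y hy =>
    uu_comm_ws ht (hBu y (mem_inf.mp hy).1) (h.fr.mem_ws_of_col hcolrp)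
  have hd : ∀ y ∈ Y, y * w * y⁻¹ * w⁻¹ ∈ ({1, c, p, p * c} : Finset G) := by
    intro y hy
    have h3 : y * w * y⁻¹ * w⁻¹ ∈ w0 V c p :=
      mul_mem (conj_mem_w0' (hYc y hy) (hYp y hy) k.hw) (inv_mem k.hw)
    have h4 : y * w * y⁻¹ * w⁻¹ ∈ uu V r :=
      comm_mem_uu ht hcolpc.symm hcolrp.symm (hBu y (mem_inf.mp hy).1) (h.w0_le hcolpc.symm k.hw)
    rcases h.inf_uu k.cr h3 h4 with e | e | e | e <;> simp [e]
  have h5 : Nat.card Y ≤ ({1, c, p, p * c} : Finset G).card * Nat.card K := by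
    refine card_le_mul hKY (fun y => y * w * y⁻¹ * w⁻¹) {1, c, p, p * c} hd ?_
    intro y hy y' hy' e
    have e1 : y * w * y⁻¹ = y' * w * y'⁻¹ := mul_right_cancel e
    have e2 : (y⁻¹ * y') * w = w * (y⁻¹ * y') := by
      calc (y⁻¹ * y') * w = y⁻¹ * (y' * w * y'⁻¹) * y' := by group
        _ = y⁻¹ * (y * w * y⁻¹) * y' := by rw [e1]
        _ = w * (y⁻¹ * y') := by group
    have e3 : y⁻¹ * y' ∈ w0 V a r := mul_mem (inv_mem (mem_inf.mp hy).1) (mem_inf.mp hy').1
    rcases h.fix_w k e3 (conj_eq_of_comm e2.symm) with e4 | e4 <;> rw [e4]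
    · exact one_mem _
    · exact mem_zpowers r
  have h6 : ({1, c, p, p * c} : Finset G).card ≤ 4 := Finset.card_le_four
  calc Nat.card (w0 V a r) ≤ ({c, r * c} : Finset G).card * Nat.card Y := h1
    _ ≤ 2 * (4 * 2) := by
      refine Nat.mul_le_mul h2 (h5.trans ?_)
      rw [hcK]
      exact Nat.mul_le_mul_right _ h6
    _ = 16 := by norm_num

end cfg

/-- `|W_a⁰| ≤ 16` -/
theorem card_le (h : HyA T V z) (hj : Jn V r a b) : Nat.card (w0 V a r) ≤ 16 := by
  obtain ⟨c, p, r', a', w, v, x, k⟩ := h.exists_cfg hj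
  obtain ⟨g, h1, h2, -⟩ := h.triple_trans (h.j1 _ _ _ k.pa) hj
  have h3 := k.card_le h
  have e : w0 V a r = cj g (w0 V a' r') := by rw [cj_w0, h1, h2]
  rw [e, card_cj]
  exact h3

end HyA

end Cfsg.Agent.Omega.NO3S.TypeN
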