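import Cfsg.Agent.Omega.NO3S.TypeN.Base

/-!
# NO-3S, `|V| = 4`, `n = 2`, TYPE N: shifts, conjugacy of flags, and case (A2) (helper60, bb #16001, section 4)

* `Jn.shift_right`, `Jn.shift_left`, `Jn.self_mul` : `Jn r a b` depends only on `a`, `b` mod `r`;
* `exists_conj_pair` : `G` is transitive on ordered pairs of different collinear points;
* `K2.exists_elts` : two elements of critical `W_c`s with different nonzero functionals;
* `a2` : (A2) is impossible.
-/

set_option autoImplicit false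
set_option linter.unusedSectionVars false

namespace Cfsg.Agent.Omega.NO3S.TypeN

open Subgroup Cfsg Cfsg.Agent.ZN Cfsg.Agent.MinSimple.Geo Cfsg.Agent.Omega.CaseL Cfsg.Agent.Omega.NO3S.TwoOne
  Cfsg.Agent.Omega.NO3S.Pt Cfsg.Agent.Omega.NO3S.TwoMid
open Cfsg.Agent.ZN.Block (conj_mem_of_normalizer conj_mem_of_normalizer' le_normalizer_of_forall
  mem_normalizer_of)

universe u

variable {G : Type u} [Group G] {T V : Subgroup G} {z : G} {a b c p r : G}

/-! ### collinear points -/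

theorem col_mul_r (h : Fr T V z) (hra : Col V r a) (hne : a ≠ r) : Col V r (a * r) := by
  obtain ⟨g, h1, h2, h3, h4⟩ := hra
  refine ⟨g, h1, mul_mem h2 h1, h3, fun e => hne ?_⟩
  have hr : r⁻¹ = r := inv_eq_self (h.pt_sq (Col.of_mem h1 h1 h3 h3))
  rw [mul_eq_one_iff_eq_inv.mp e, hr]

/-- a mover of `K_r` at a neighbour -/
theorem exists_mover (h : Fr T V z) (hra : Col V r a) (hne : a ≠ r) : ∃ k ∈ kq V r, k * a * k⁻¹ = a * r := by
  obtain ⟨g, h1, h2, h3, h4⟩ := id hra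
  obtain ⟨k, hk, -, hk2⟩ := h.mover_cj h1 h3
  refine ⟨k, hk, ?_⟩
  rw [hk2 a h2 h4 hne, h.col_comm hra]

theorem kq_cent (V : Subgroup G) {k r : G} (hk : k ∈ kq V r) : k * r * k⁻¹ = r :=
  conj_eq_of_comm (mem_centralizer_singleton_iff.mp (kq_le_centralizer V r hk))

/-- ordered pairs of different collinear points are conjugate -/
theorem exists_conj_pair (h : Fr T V z) {s t : G} (hra : Col V r a) (hne : a ≠ r) (hst : Col V s t) (hne' : t ≠ s) :
    ∃ g, g * r * g⁻¹ = s ∧ g * a * g⁻¹ = t := by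
  obtain ⟨g, h1, h2, h3, h4⟩ := id hra
  obtain ⟨m, k1, k2, k3, k4⟩ := id hst
  obtain ⟨x, hx1, hx2, -⟩ := h.flag h1 h3
  obtain ⟨y, hy1, hy2, hf⟩ := h.flag k1 k3
  have e1 : y * x⁻¹ * r * (y * x⁻¹)⁻¹ = s := by
    calc y * x⁻¹ * r * (y * x⁻¹)⁻¹ = y * (x⁻¹ * r * x) * y⁻¹ := by group
      _ = y * (x⁻¹ * (x * z * x⁻¹) * x) * y⁻¹ := by rw [hx2]
      _ = y * z * y⁻¹ := by group
      _ = s := hy2
  have e2 : y * x⁻¹ * a * (y * x⁻¹)⁻¹ ∈ cj m V := by
    have h5 : a ∈ cj x V := by rw [hx1]; exact h2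
    have h6 := mem_cj.mp h5
    have h7 := conj_mem_cj (g := y) h6
    rw [hy1] at h7
    have e : y * (x⁻¹ * a * x) * y⁻¹ = y * x⁻¹ * a * (y * x⁻¹)⁻¹ := by group
    rwa [e] at h7
  have e3 : y * x⁻¹ * a * (y * x⁻¹)⁻¹ ≠ 1 := fun e => h4 (conj_eq_one_iff.mp e)
  have e4 : y * x⁻¹ * a * (y * x⁻¹)⁻¹ ≠ s := by
    intro e
    apply hne
    have := e.trans e1.symm
    simpa using this
  rcases hf.ln.four k1 k2 k3 k4 (Ne.symm hne') e2 with e | e | e | e
  · exact absurd e e3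
  · exact absurd e e4
  · exact ⟨y * x⁻¹, e1, e⟩
  · obtain ⟨k, hk, hk1⟩ := exists_mover h hst hne'
    refine ⟨k * (y * x⁻¹), ?_, ?_⟩
    · calc k * (y * x⁻¹) * r * (k * (y * x⁻¹))⁻¹ = k * (y * x⁻¹ * r * (y * x⁻¹)⁻¹) * k⁻¹ := by group
        _ = s := by rw [e1, kq_cent V hk]
    · calc k * (y * x⁻¹) * a * (k * (y * x⁻¹))⁻¹ = k * (y * x⁻¹ * a * (y * x⁻¹)⁻¹) * k⁻¹ := by group
        _ = (k * s * k⁻¹) * (k * t * k⁻¹) := by rw [e]; group
        _ = s * (t * s) := by rw [kq_cent V hk, hk1]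
        _ = (s * s) * t := by rw [h.col_comm hst.symm]; group
        _ = t := by rw [h.pt_sq hst.left, one_mul]

variable [Finite G]

/-! ### shifts -/

theorem Jn.shift_right (h : TyN T V z) (hj : Jn V r a b) : Jn V r a (b * r) := by
  have hb := hj.ne_right h
  obtain ⟨h1, h2, u, hu, hub⟩ := hj
  refine ⟨h1, col_mul_r h.fr h2 hb, u, hu, ?_⟩
  have hur : u * r * u⁻¹ = r := conj_eq_of_comm (uu_comm_ws h hu (h.fr.mem_ws_of_col h1))
  calc u * (b * r) * u⁻¹ = (u * b * u⁻¹) * (u * r * u⁻¹) := by group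
    _ = a * (b * r) := by rw [hub, hur, mul_assoc]

theorem mul_mul_cancel_pt (h : TyN T V z) (hr : Col V r b) (x : G) : x * r * r = x := by
  rw [mul_assoc, sq_pt h hr, mul_one]

theorem Jn.shift_left (h : TyN T V z) (hj : Jn V r a b) : Jn V r (a * r) b := by
  obtain ⟨k, hk, hka⟩ := exists_mover h.fr hj.1.symm (hj.ne_left h)
  have h1 := hj.conj k
  rw [kq_cent V hk, hka] at h1
  rcases h.fr.kq_cases' hj.1.right hk (h.fr.mem_ws_of_col hj.2.1) with e | e
  · rwa [e] at h1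
  · rw [e, h.fr.col_comm hj.2.1] at h1
    have h2 := h1.shift_right h
    rwa [mul_mul_cancel_pt h hj.2.1] at h2

/-- `a` is joined to `a b` -/
theorem Jn.self_mul (h : TyN T V z) (hj : Jn V r a b) : Jn V r a (a * b) := by
  have h3 := hj.col_mul h
  obtain ⟨h1, h2, u, hu, hub⟩ := hj
  refine ⟨h1, h3, u, hu, ?_⟩
  have hua : u * a * u⁻¹ = a := conj_eq_of_comm (uu_comm_ws h hu (h.fr.mem_ws_self h1.left))
  calc u * (a * b) * u⁻¹ = (u * a * u⁻¹) * (u * b * u⁻¹) := by group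
    _ = a * (a * b) := by rw [hua, hub]

theorem Jn.unshift_right (h : TyN T V z) (hrb : Col V r b) (hj : Jn V r a (b * r)) : Jn V r a b := by
  have := hj.shift_right h
  rwa [mul_mul_cancel_pt h hrb] at this

theorem Jn.unshift_left (h : TyN T V z) (hra : Col V r a) (hj : Jn V r (a * r) b) : Jn V r a b := by
  have := hj.shift_left h
  rwa [mul_mul_cancel_pt h hra] at this

/-! ### `κ ≥ 2` -/

/-- two elements of `W_c`s, `c ~ p`, with different nonzero functionals on `W_r` -/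
theorem K2.exists_elts (h : TyN T V z) (hK : K2 V) : ∃ p r a c c', Col V p r ∧ Col V r a ∧ Col V p c ∧ Col V p c' ∧
    ∃ w ∈ ws V c, ∃ w' ∈ ws V c', ∃ x ∈ ws V r, w * a * w⁻¹ ≠ a ∧ w' * a * w'⁻¹ = a ∧ w' * x * w'⁻¹ ≠ x := by
  obtain ⟨p, r, hpr, u, hu, u', hu', x, hx, x', hx', h1, h2, h3⟩ := hK
  have hact : ∀ g ∈ uu V p, ∀ y ∈ ws V r, g * y * g⁻¹ = y ∨ g * y * g⁻¹ = p * y :=
    fun g hg y hy => act h hpr hg hy
  -- two elements with different functionals
  obtain ⟨c, hc, w, hw, hwx⟩ := exists_ws V ⟨u, hu, h1⟩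
  have step1 : ∃ c', Col V p c' ∧ ∃ w' ∈ ws V c', (∃ y ∈ ws V r, w * y * w⁻¹ ≠ w' * y * w'⁻¹) ∧
      ∃ y ∈ ws V r, w' * y * w'⁻¹ ≠ y := by
    by_contra hcon
    push Not at hcon
    let A : Subgroup G :=
      { carrier := {g | g ∈ uu V p ∧ ((∀ y ∈ ws V r, g * y * g⁻¹ = y) ∨ (∀ y ∈ ws V r, g * y * g⁻¹ = w * y * w⁻¹))}
        mul_mem' := by
          rintro g g' ⟨hg, hg1⟩ ⟨hg', hg1'⟩
          refine ⟨mul_mem hg hg', ?_⟩
          have key : ∀ y, g * g' * y * (g * g')⁻¹ = g * (g' * y * g'⁻¹) * g⁻¹ := fun y => by group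
          rcases hg1 with e | e <;> rcases hg1' with e' | e'
          · left; intro y hy; rw [key, e' y hy, e y hy]
          · right
            intro y hy
            rw [key, e' y hy]
            have : w * y * w⁻¹ ∈ ws V r := by
              rcases hact w (ws_le_uu hc hw) y hy with e2 | e2 <;> rw [e2]
              · exact hy
              · exact mul_mem (h.fr.mem_ws_of_col hpr.symm) hy
            rw [e _ this]
          · right
            intro y hy
            rw [key, e' y hy, e y hy]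
          · left
            intro y hy
            rw [key, e' y hy]
            have hwp : w * p * w⁻¹ = p :=
              conj_eq_of_comm (uu_comm_ws h (ws_le_uu hc hw) (h.fr.mem_ws_self hpr.left))
            rcases hact w (ws_le_uu hc hw) y hy with e2 | e2 <;> rw [e2]
            · rw [e y hy, e2]
            · rw [e _ (mul_mem (h.fr.mem_ws_of_col hpr.symm) hy)]
              calc w * (p * y) * w⁻¹ = (w * p * w⁻¹) * (w * y * w⁻¹) := by group
                _ = (p * p) * y := by rw [hwp, e2, mul_assoc]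
                _ = y := by rw [sq_pt h hpr, one_mul]
        one_mem' := ⟨one_mem _, Or.inl fun y _ => by group⟩
        inv_mem' := by
          rintro g ⟨hg, hg1⟩
          refine ⟨inv_mem hg, ?_⟩
          rcases hg1 with e | e
          · left
            intro y hy
            calc g⁻¹ * y * g⁻¹⁻¹ = g⁻¹ * (g * y * g⁻¹) * g⁻¹⁻¹ := by rw [e y hy]
              _ = y := by group
          · right
            intro y hy
            have hwp : w * p * w⁻¹ = p :=
              conj_eq_of_comm (uu_comm_ws h (ws_le_uu hc hw) (h.fr.mem_ws_self hpr.left))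
            rcases hact w (ws_le_uu hc hw) y hy with e2 | e2
            · rw [e2]
              calc g⁻¹ * y * g⁻¹⁻¹ = g⁻¹ * (g * y * g⁻¹) * g⁻¹⁻¹ := by rw [e y hy, e2]
                _ = y := by group
            · rw [e2]
              have h5 := e (p * y) (mul_mem (h.fr.mem_ws_of_col hpr.symm) hy)
              have h6 : w * (p * y) * w⁻¹ = y := by
                calc w * (p * y) * w⁻¹ = (w * p * w⁻¹) * (w * y * w⁻¹) := by group
                  _ = (p * p) * y := by rw [hwp, e2, mul_assoc]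
                  _ = y := by rw [sq_pt h hpr, one_mul]
              calc g⁻¹ * y * g⁻¹⁻¹ = g⁻¹ * (g * (p * y) * g⁻¹) * g⁻¹⁻¹ := by rw [h5, h6]
                _ = p * y := by group }
    have hA : uu V p ≤ A := by
      refine uu_le fun c' hc' w' hw' => ⟨ws_le_uu hc' hw', ?_⟩
      by_cases h5 : ∀ y ∈ ws V r, w * y * w⁻¹ = w' * y * w'⁻¹
      · exact Or.inr fun y hy => (h5 y hy).symm
      · push Not at h5
        obtain ⟨y, hy, hne⟩ := h5
        exact Or.inl fun y' hy' => hcon c' hc' w' hw' ⟨y, hy, hne⟩ y' hy'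
    rcases (hA hu').2 with e | e
    · exact h3 (e x' hx')
    · exact hwx ((e x hx).symm.trans h2)
  obtain ⟨c', hc', w', hw', ⟨y, hy, hne⟩, ⟨y', hy', hne'⟩⟩ := step1
  -- a point where they differ
  have step2 : ∃ a, Col V r a ∧ w * a * w⁻¹ ≠ w' * a * w'⁻¹ := by
    by_contra hcon
    push Not at hcon
    let A : Subgroup G :=
      { carrier := {g | w * g * w⁻¹ = w' * g * w'⁻¹}
        mul_mem' := by
          intro g g' hg hg'
          simp only [Set.mem_ofPred_eq] at hg hg' ⊢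
          calc w * (g * g') * w⁻¹ = (w * g * w⁻¹) * (w * g' * w⁻¹) := by group
            _ = (w' * g * w'⁻¹) * (w' * g' * w'⁻¹) := by rw [hg, hg']
            _ = w' * (g * g') * w'⁻¹ := by group
        one_mem' := by simp
        inv_mem' := by
          intro g hg
          simp only [Set.mem_ofPred_eq] at hg ⊢
          calc w * g⁻¹ * w⁻¹ = (w * g * w⁻¹)⁻¹ := by group
            _ = (w' * g * w'⁻¹)⁻¹ := by rw [hg]
            _ = w' * g⁻¹ * w'⁻¹ := by group }
    have hA : ws V r ≤ A := by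
      refine ws_le fun L hL => ?_
      obtain ⟨⟨g, rfl⟩, hr⟩ := hL
      intro g' hg'
      by_cases h5 : g' = 1
      · rw [h5]; exact A.one_mem
      · exact hcon g' ⟨g, hr, hg', hpr.symm.ne_one, h5⟩
    exact hne (hA hy)
  obtain ⟨a, hra, hne2⟩ := step2
  have hm := hact w (ws_le_uu hc hw) a (h.fr.mem_ws_of_col hra)
  have hm' := hact w' (ws_le_uu hc' hw') a (h.fr.mem_ws_of_col hra)
  rcases hm' with e | e
  · refine ⟨p, r, a, c, c', hpr, hra, hc, hc', w, hw, w', hw', y', hy', ?_, e, hne'⟩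
    rwa [e] at hne2
  · rcases hm with e2 | e2
    · refine ⟨p, r, a, c', c, hpr, hra, hc', hc, w', hw', w, hw, x, hx, ?_, e2, hwx⟩
      rw [e2] at hne2
      exact hne2.symm
    · exact absurd (e2.trans e.symm) hne2

/-! ### (A2) -/

/-- (A2), step 1: for `a`, `p` joined at `r`, `W_a ≤ W_{pa} Z_r` -/
theorem a2_step (h : TyN T V z) (hA2 : ∀ c p r, Mid T V z c p r → ¬ Jn V p r c) (hj : Jn V r p a) {y : G}
    (hy : y ∈ ws V a) : ∃ y' ∈ ws V (p * a), ∃ s ∈ zr V r, y = s * y' := by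
  obtain ⟨u, hu, hne⟩ := hj.exists_ne
  obtain ⟨c, hc, w, hw, hwa⟩ := exists_ws V ⟨u, hu, hne⟩
  have hm := mid_of_move h hc.symm hj.1 hw (h.fr.mem_ws_of_col hj.2.1) hwa
  have hwa' := (act h hj.1 (ws_le_uu hc hw) (h.fr.mem_ws_of_col hj.2.1)).resolve_left hwa
  have h1 := cent_uu h hm (hA2 c p r hm) (ws_le_uu hj.2.1 hy) hw
  refine ⟨w * y * w⁻¹, ?_, _, h1, ?_⟩
  · have := conj_mem_ws w hy
    rwa [hwa'] at this
  · group

/-- (A2), step 2: `W_a ≤ W_{ar} Z_r` -/
theorem a2_step2 (h : TyN T V z) (hA2 : ∀ c p r, Mid T V z c p r → ¬ Jn V p r c) (hj : Jn V r p a) {y : G}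
    (hy : y ∈ ws V a) : ∃ y' ∈ ws V (a * r), ∃ s ∈ zr V r, y = s * y' := by
  obtain ⟨y1, hy1, s1, hs1, e1⟩ := a2_step h hA2 hj hy
  have hj2 : Jn V r (p * r) (p * a) := (hj.self_mul h).shift_left h
  obtain ⟨y2, hy2, s2, hs2, e2⟩ := a2_step h hA2 hj2 hy1
  have hp := h.fr.mem_ws_of_col hj.1.symm
  have hr := h.fr.mem_ws_self hj.1.right
  have ha := h.fr.mem_ws_of_col hj.2.1
  have e : p * r * (p * a) = a * r := by
    calc p * r * (p * a) = p * (r * p) * a := by group
      _ = p * (p * r) * a := by rw [comm_ws h hj.1.right hr hp]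
      _ = (p * p) * (r * a) := by group
      _ = a * r := by rw [sq_pt h hj.1, one_mul, comm_ws h hj.1.right hr ha]
  rw [e] at hy2
  exact ⟨y2, hy2, s1 * s2, mul_mem hs1 hs2, by rw [e1, e2]; group⟩

theorem zr_norm (V : Subgroup G) (r : G) : centralizer ({r} : Set G) ≤ normalizer ((zr V r : Subgroup G) : Set G) := by
  refine le_normalizer_of_forall fun g hg x hx => ?_
  have h1 := centralizer_le_normalizer_uu V r hg
  refine mem_inf.mpr ⟨conj_mem_of_normalizer (centralizer_le_normalizer_uu V r) hg (mem_inf.mp hx).1, ?_⟩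
  rw [mem_centralizer_iff]
  intro y hy
  have hy' : g⁻¹ * y * g ∈ uu V r := (mem_normalizer_iff''.mp h1 y).mp hy
  have := mem_centralizer_iff.mp (mem_inf.mp hx).2 _ hy'
  calc y * (g * x * g⁻¹) = g * ((g⁻¹ * y * g) * x) * g⁻¹ := by group
    _ = g * (x * (g⁻¹ * y * g)) * g⁻¹ := by rw [this]
    _ = g * x * g⁻¹ * y := by group

/-- the action of `g ∈ C(a) ∩ C(r)` on `Q_a = W_a / C_{W_a}(U_r)` is trivial -/
def Tr (V : Subgroup G) (a r g : G) : Prop := ∀ y ∈ ws V a, ∀ u ∈ uu V r, (g * y * g⁻¹ * y⁻¹) * u = u * (g * y * g⁻¹ * y⁻¹)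

/-- (A2), step 3: `Q_a` and `Q_{ar}` are the same module -/
theorem a2_tr (h : TyN T V z) (hA2 : ∀ c p r, Mid T V z c p r → ¬ Jn V p r c) (hj : Jn V r p a) {g : G}
    (hgr : g * r = r * g) (ht : Tr V (a * r) r g) : Tr V a r g := by
  intro y hy u hu
  obtain ⟨y', hy', s, hs, rfl⟩ := a2_step2 h hA2 hj hy
  have hgr' : g ∈ centralizer ({r} : Set G) := mem_centralizer_singleton_iff.mpr hgr
  have hs' : g * s * g⁻¹ ∈ zr V r := conj_mem_of_normalizer (zr_norm V r) hgr' hs
  have e : g * (s * y') * g⁻¹ * (s * y')⁻¹ = (g * s * g⁻¹) * (g * y' * g⁻¹ * y'⁻¹) * s⁻¹ := by group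
  rw [e]
  have c1 : (g * s * g⁻¹) * u = u * (g * s * g⁻¹) := (mem_centralizer_iff.mp (mem_inf.mp hs').2 u hu).symm
  have c2 := ht y' hy' u hu
  have c3 : s⁻¹ * u = u * s⁻¹ := (mem_centralizer_iff.mp (inv_mem (mem_inf.mp hs).2) u hu).symm
  exact mul_comm_of (mul_comm_of c1 c2) c3

/-- `C_{W_a}(U_r) ≤ C(U_{ar})` -/
theorem tr_shift (h : TyN T V z) (hra : Col V a r) (hne : r ≠ a) {y : G} (hy : y ∈ ws V a)
    (hc : ∀ u ∈ uu V r, y * u = u * y) : ∀ u ∈ uu V (r * a), y * u = u * y := by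
  obtain ⟨k, hk, hkr⟩ := exists_mover h.fr hra hne
  intro u hu
  have hu' : k⁻¹ * u * k ∈ uu V r := by
    have h1 : k⁻¹ * u * k⁻¹⁻¹ ∈ cj k⁻¹ (uu V (r * a)) := conj_mem_cj hu
    rw [cj_uu, ← hkr] at h1
    have e : k⁻¹ * (k * r * k⁻¹) * k⁻¹⁻¹ = r := by group
    rwa [e, inv_inv] at h1
  have h2 := hc _ hu'
  have h3 : (k * y * k⁻¹) * u = u * (k * y * k⁻¹) := by
    calc (k * y * k⁻¹) * u = k * (y * (k⁻¹ * u * k)) * k⁻¹ := by group
      _ = k * ((k⁻¹ * u * k) * y) * k⁻¹ := by rw [h2]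
      _ = u * (k * y * k⁻¹) := by group
  rcases h.fr.kq_cases' hra.left hk hy with e | e
  · rwa [e] at h3
  · rw [e] at h3
    have h4 : a * u = u * a := by
      have hcol : Col V a (r * a) := col_mul_r h.fr hra hne
      exact (uu_comm_ws h hu (h.fr.mem_ws_of_col hcol.symm)).symm
    have h5 := mul_comm_of h4 h3
    rwa [← mul_assoc, sq_pt h hra, one_mul] at h5

/-- **(A2) is impossible.** -/
theorem a2 (h : TyN T V z) (hK : K2 V) (hj1 : ∀ r a b, Jn V r a b → Jn V r b a)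
    (hA2 : ∀ c p r, Mid T V z c p r → ¬ Jn V p r c) : False := by
  obtain ⟨p, r, a, c, c', hpr, hra, hc, hc', w, hw, g, hg, x, hx, hwa, hga, hgx⟩ := hK.exists_elts h
  -- `p`, `a` joined at `r`
  have hj : Jn V r p a := Jn.of_ne h hpr hra (ws_le_uu hc hw) hwa
  have hj' : Jn V r a p := hj1 _ _ _ hj
  have har : r ≠ a := (hj'.ne_left h).symm
  have hm : Mid T V z c' p r := mid_of_move h hc'.symm hpr hg hx hgx
  have hga' : g * a = a * g := comm_of_conj_eq hga
  have hgr : g * r = r * g := uu_comm_ws h (ws_le_uu hc' hg) (h.fr.mem_ws_of_col hpr)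
  -- `g` centralises `U_r / Z_r`
  have hq : ∀ u ∈ uu V r, u * g * u⁻¹ * g⁻¹ ∈ zr V r := fun u hu => cent_uu h hm (hA2 _ _ _ hm) hu hg
  -- `Tr (a r) r g`
  have hcar : Col V r (a * r) := col_mul_r h.fr hra har.symm
  have t1 : Tr V (a * r) r g := by
    intro y hy u hu
    have h1 := hq y (ws_le_uu hcar hy)
    have e : g * y * g⁻¹ * y⁻¹ = (y * g * y⁻¹ * g⁻¹)⁻¹ := by group
    rw [e]
    exact (mem_centralizer_iff.mp (inv_mem (mem_inf.mp h1).2) u hu).symm
  -- `Tr (a r) a g`, via `r → r (a r) = a`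
  have hcar' : Col V (a * r) r := hcar.symm
  have hne1 : r ≠ a * r := by
    intro e
    exact hra.symm.ne_one (by simpa using e)
  have era : r * (a * r) = a := by
    rw [h.fr.col_comm hcar, mul_mul_cancel_pt h hra]
  have t2 : Tr V (a * r) a g := by
    intro y hy u hu
    have hcomm : g * (a * r) = (a * r) * g := by
      calc g * (a * r) = (g * a) * r := by group
        _ = a * (g * r) := by rw [hga']; group
        _ = (a * r) * g := by rw [hgr]; group
    have hmem : g * y * g⁻¹ * y⁻¹ ∈ ws V (a * r) := comm_mem_ws hcomm hy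
    have h1 := tr_shift h hcar' hne1 hmem (fun u hu => t1 y hy u hu)
    rw [era] at h1
    exact h1 u hu
  -- `Tr r a g`
  have hja : ∃ q, Jn V a q r := by
    obtain ⟨k, hk1, hk2⟩ := exists_conj_pair h.fr hra har.symm hra.symm har
    refine ⟨k * p * k⁻¹, ?_⟩
    have := hj.conj k
    rwa [hk1, hk2] at this
  obtain ⟨q, hq'⟩ := hja
  have t3 : Tr V r a g := by
    refine a2_tr h hA2 hq' hga' ?_
    rw [h.fr.col_comm hra]
    exact t2
  -- but `g` moves `x` to `p x`
  obtain ⟨v, hv, hvp⟩ := hj'.exists_ne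
  have h5 := t3 x hx v hv
  have h6 := (act h hpr (ws_le_uu hc' hg) hx).resolve_left hgx
  rw [h6] at h5
  apply hvp
  have e : p * x * x⁻¹ = p := by group
  rw [e] at h5
  exact conj_eq_of_comm h5.symm

end Cfsg.Agent.Omega.NO3S.TypeN
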