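import Cfsg.Agent.Omega.NO3S.TypeN.ATwo

/-!
# NO-3S, `|V| = 4`, `n = 2`, TYPE N: components, the groups `W_a⁰` (helper60, bb #16001, sections 3, 5)

`Hy` : TYPE N, joined is symmetric and transitive.

* `Hy.sep` : `a`, `b`, `e` pairwise joined, `e ∉ ⟨a b, r⟩`: some `g ∈ U_e` fixes `a` and moves `b`;
* `Hy.pair_trans` : `C(r) ∩ C(a)` is transitive on the points joined to `a` at `r`;
* `Hy.crit_of_jn` : if one joined pair is critical, all are;
* `w0 V a r = W_a⁰` : the preimage in `W_a` of the component of `r`.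
-/

set_option autoImplicit false
set_option linter.unusedSectionVars false

namespace Cfsg.Agent.Omega.NO3S.TypeN

open Subgroup Cfsg Cfsg.Agent.ZN Cfsg.Agent.MinSimple.Geo Cfsg.Agent.Omega.CaseL Cfsg.Agent.Omega.NO3S.TwoOne
  Cfsg.Agent.Omega.NO3S.Pt Cfsg.Agent.Omega.NO3S.TwoMid
open Cfsg.Agent.ZN.Block (conj_mem_of_normalizer conj_mem_of_normalizer' le_normalizer_of_forall
  mem_normalizer_of)

universe u

variable {G : Type u} [Group G] {T V : Subgroup G} {z : G} {a b c e p r x y : G}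

/-- TYPE N, joined is an equivalence -/
structure Hy (T V : Subgroup G) (z : G) : Prop extends TyN T V z where
  j1 : ∀ r a b, Jn V r a b → Jn V r b a
  j2 : ∀ r a b c, Jn V r a b → Jn V r b c → c ≠ a → c ≠ a * r → Jn V r a c

/-- `W_a⁰`: the preimage in `W_a` of the component of `r` -/
def w0 (V : Subgroup G) (a r : G) : Subgroup G := closure ({a, r} ∪ {x | Jn V a r x})

theorem a_mem_w0 : a ∈ w0 V a r := subset_closure (Or.inl (Or.inl rfl))

theorem r_mem_w0 : r ∈ w0 V a r := subset_closure (Or.inl (Or.inr rfl))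

theorem jn_mem_w0 (h : Jn V a r x) : x ∈ w0 V a r := subset_closure (Or.inr h)

theorem cj_w0 (V : Subgroup G) (g a r : G) : cj g (w0 V a r) = w0 V (g * a * g⁻¹) (g * r * g⁻¹) := by
  have key : ∀ g a r : G, cj g (w0 V a r) ≤ w0 V (g * a * g⁻¹) (g * r * g⁻¹) := by
    intro g a r
    rw [cj_le_iff]
    refine (closure_le _).mpr ?_
    rintro x ((rfl | rfl) | hx)
    · exact mem_cj.mpr (by simpa using a_mem_w0)
    · exact mem_cj.mpr (by simpa using r_mem_w0)
    · exact mem_cj.mpr (by simpa using jn_mem_w0 (Jn.conj hx g))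
  refine le_antisymm (key g a r) ?_
  have h := key g⁻¹ (g * a * g⁻¹) (g * r * g⁻¹)
  have e : ∀ x : G, g⁻¹ * (g * x * g⁻¹) * g⁻¹⁻¹ = x := fun x => by group
  rw [e, e, cj_le_iff, inv_inv] at h
  exact h

theorem conj_mem_w0 (g : G) (hx : x ∈ w0 V a r) : g * x * g⁻¹ ∈ w0 V (g * a * g⁻¹) (g * r * g⁻¹) := by
  rw [← cj_w0]; exact conj_mem_cj hx

theorem conj_mem_w0' {g : G} (ha : g * a = a * g) (hr : g * r = r * g) (hx : x ∈ w0 V a r) :
    g * x * g⁻¹ ∈ w0 V a r := by
  have := conj_mem_w0 g hx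
  rwa [conj_eq_of_comm ha, conj_eq_of_comm hr] at this

variable [Finite G]

namespace Hy

theorem col_of_jn (h : Hy T V z) (hj : Jn V r a b) : Col V r (a * b) := hj.col_mul h.toTyN

/-- `b` is joined to `a b` -/
theorem mul_self' (h : Hy T V z) (hj : Jn V r a b) : Jn V r b (a * b) := by
  have h1 := (h.j1 _ _ _ hj).self_mul h.toTyN
  rwa [comm_ws h.toTyN hj.1.right (h.fr.mem_ws_of_col hj.2.1) (h.fr.mem_ws_of_col hj.1.symm)] at h1

/-- (J4) `a`, `b`, `e` pairwise joined, `e ∉ {a b, a b r}` : some `g ∈ U_e` fixes `a` and moves `b`. -/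
theorem sep (h : Hy T V z) (hab : Jn V r a b) (hea : Jn V r e a) (heb : Jn V r e b) (h1 : e ≠ a * b)
    (h2 : e ≠ a * b * r) : ∃ g ∈ uu V e, g * a * g⁻¹ = a ∧ g * b * g⁻¹ = e * b := by
  have ht := h.toTyN
  have hact : ∀ g ∈ uu V e, ∀ y ∈ ws V r, g * y * g⁻¹ = y ∨ g * y * g⁻¹ = e * y :=
    fun g hg y hy => act ht hea.1 hg hy
  have ha := h.fr.mem_ws_of_col hea.2.1
  have hb := h.fr.mem_ws_of_col heb.2.1
  have hce := hea.1.left
  have he := h.fr.mem_ws_of_col hea.1.symm
  have hee : e * e = 1 := sq_pt ht hea.1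
  obtain ⟨-, -, g1, hg1, hg1b⟩ := id heb
  rcases hact g1 hg1 a ha with e1 | e1
  · exact ⟨g1, hg1, e1, hg1b⟩
  have h3 : Jn V r a (a * b) := hab.self_mul ht
  have hne : a * b ≠ e * r := by
    intro e'
    apply h2
    rw [e', mul_mul_cancel_pt ht hea.1.symm]
  have h4 : Jn V r e (a * b) := h.j2 _ _ _ _ hea h3 (Ne.symm h1) hne
  obtain ⟨-, -, g2, hg2, hg2b⟩ := h4
  have e2 : g2 * (a * b) * g2⁻¹ = (g2 * a * g2⁻¹) * (g2 * b * g2⁻¹) := by group
  rw [e2] at hg2b
  have hea' : e * a = a * e := comm_ws ht hea.1.right he ha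
  rcases hact g2 hg2 a ha with ea | ea <;> rcases hact g2 hg2 b hb with eb | eb
  · exfalso
    rw [ea, eb] at hg2b
    exact hea.1.ne_one (by simpa using hg2b.symm)
  · exact ⟨g2, hg2, ea, eb⟩
  · refine ⟨g1 * g2, mul_mem hg1 hg2, ?_, ?_⟩
    · have hg1e : g1 * e * g1⁻¹ = e := conj_eq_of_comm (uu_comm_ws ht hg1 (h.fr.mem_ws_self hce))
      calc g1 * g2 * a * (g1 * g2)⁻¹ = g1 * (g2 * a * g2⁻¹) * g1⁻¹ := by group
        _ = (g1 * e * g1⁻¹) * (g1 * a * g1⁻¹) := by rw [ea]; group
        _ = (e * e) * a := by rw [hg1e, e1, mul_assoc]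
        _ = a := by rw [hee, one_mul]
    · calc g1 * g2 * b * (g1 * g2)⁻¹ = g1 * (g2 * b * g2⁻¹) * g1⁻¹ := by group
        _ = e * b := by rw [eb, hg1b]
  · exfalso
    rw [ea, eb] at hg2b
    have : e * a * (e * b) = a * b := by
      calc e * a * (e * b) = a * (e * e) * b := by rw [hea']; group
        _ = a * b := by rw [hee, mul_one]
    rw [this] at hg2b
    exact hea.1.ne_one (by simpa using hg2b.symm)

/-- `C(r) ∩ C(a)` is transitive on the points joined to `a` at `r` -/
theorem pair_trans (h : Hy T V z) {b' : G} (hab : Jn V r a b) (hab' : Jn V r a b') :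
    ∃ g, g * r = r * g ∧ g * a = a * g ∧ g * b * g⁻¹ = b' := by
  have ht := h.toTyN
  have hr := hab.1.right
  have har := h.fr.mem_ws_of_col hab.1.symm
  have hbr := h.fr.mem_ws_of_col hab.2.1
  have hbr' := h.fr.mem_ws_of_col hab'.2.1
  have hrr := h.fr.mem_ws_self hr
  have haa : a * a = 1 := sq_pt ht hab.1
  have hbb : b * b = 1 := sq_pt ht hab.2.1.symm
  have hb'b' : b' * b' = 1 := sq_pt ht hab'.2.1.symm
  have hrr2 : r * r = 1 := sq_pt ht hr
  have cab : a * b = b * a := comm_ws ht hr har hbr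
  have cbr : b * r = r * b := comm_ws ht hr hbr hrr
  have car : a * r = r * a := comm_ws ht hr har hrr
  have cbb : b * b' = b' * b := comm_ws ht hr hbr hbr'
  -- elements of `U_a`, `U_{ar}` centralise `a`, `r`
  have hUa : ∀ g ∈ uu V a, g * r = r * g ∧ g * a = a * g := fun g hg =>
    ⟨uu_comm_ws ht hg (h.fr.mem_ws_of_col hab.1), uu_comm_ws ht hg (h.fr.mem_ws_self hab.1.left)⟩
  have hUar : ∀ g ∈ uu V (a * r), g * r = r * g ∧ g * a = a * g := by
    intro g hg
    have hcol : Col V (a * r) r := (hab.shift_left ht).1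
    have h1 : g * r = r * g := uu_comm_ws ht hg (h.fr.mem_ws_of_col hcol)
    have h2 : g * (a * r) = a * r * g := uu_comm_ws ht hg (h.fr.mem_ws_self hcol.left)
    refine ⟨h1, ?_⟩
    have h3 := comm_mul_of h2 h1
    rwa [mul_mul_cancel_pt ht hab.1.symm] at h3
  by_cases c1 : b' = b
  · exact ⟨1, by simp, by simp, by simp [c1]⟩
  by_cases c2 : b' = a * b
  · obtain ⟨-, -, g, hg, hgb⟩ := hab
    exact ⟨g, (hUa g hg).1, (hUa g hg).2, by rw [hgb, c2]⟩
  by_cases c3 : b' = a * b * r
  · obtain ⟨-, -, g, hg, hgb⟩ := hab.shift_left ht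
    refine ⟨g, (hUar g hg).1, (hUar g hg).2, ?_⟩
    rw [hgb, c3, mul_assoc, mul_assoc, cbr]
  by_cases c4 : b' = b * r
  · obtain ⟨-, -, g, hg, hgb⟩ := id hab
    obtain ⟨-, -, g', hg', hgb'⟩ := (hab.self_mul ht).shift_left ht
    refine ⟨g' * g, mul_comm_of (hUar g' hg').1 (hUa g hg).1, mul_comm_of (hUar g' hg').2 (hUa g hg).2, ?_⟩
    calc g' * g * b * (g' * g)⁻¹ = g' * (g * b * g⁻¹) * g'⁻¹ := by group
      _ = a * r * (a * b) := by rw [hgb, hgb']
      _ = a * (r * a) * b := by group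
      _ = (a * a) * (r * b) := by rw [← car]; group
      _ = b' := by rw [haa, one_mul, c4, cbr]
  -- the general case
  have hbb' : Jn V r b b' := h.j2 _ _ _ _ (h.j1 _ _ _ hab) hab' c1 c4
  have he1 : Jn V r b (b * b') := hbb'.self_mul ht
  have he2 : Jn V r (b * b') b := h.j1 _ _ _ he1
  have he3 : Jn V r (b * b') a := by
    refine h.j2 _ _ _ _ he2 (h.j1 _ _ _ hab) ?_ ?_
    · intro e'
      apply c2
      calc b' = b * (b * b') := by rw [← mul_assoc, hbb, one_mul]
        _ = a * b := by rw [← e', cab]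
    · intro e'
      apply c3
      have : a * r = b * b' := by rw [e', mul_mul_cancel_pt ht (hab.2.1)]
      calc b' = b * (b * b') := by rw [← mul_assoc, hbb, one_mul]
        _ = b * (a * r) := by rw [this]
        _ = a * b * r := by rw [cab]; group
  have hne1 : b * b' ≠ a * b := by
    intro e'
    rw [cab] at e'
    have : b' = a := mul_left_cancel e'
    exact (hab'.ne ht) this.symm
  have hne2 : b * b' ≠ a * b * r := by
    intro e'
    rw [cab, mul_assoc] at e'
    have : b' = a * r := mul_left_cancel e'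
    apply hab'.not_mem ht
    rw [this]
    exact mul_mem (h.fr.mem_ws_self hab.1.left) (h.fr.mem_ws_of_col hab.1)
  obtain ⟨g, hg, hga, hgb⟩ := h.sep hab he3 he2 hne1 hne2
  refine ⟨g, uu_comm_ws ht hg (h.fr.mem_ws_of_col he3.1), comm_of_conj_eq hga, ?_⟩
  rw [hgb]
  calc b * b' * b = b * (b' * b) := by group
    _ = (b * b) * b' := by rw [← cbb]; group
    _ = b' := by rw [hbb, one_mul]

/-- all joined pairs (with the vertex) are conjugate -/
theorem triple_trans (h : Hy T V z) {r' a' b' : G} (hj : Jn V r a b) (hj' : Jn V r' a' b') :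
    ∃ g, g * r * g⁻¹ = r' ∧ g * a * g⁻¹ = a' ∧ g * b * g⁻¹ = b' := by
  have ht := h.toTyN
  obtain ⟨k, hk1, hk2⟩ := exists_conj_pair h.fr hj.1.symm (hj.ne_left ht) hj'.1.symm (hj'.ne_left ht)
  have h1 := hj.conj k
  rw [hk1, hk2] at h1
  obtain ⟨g, hg1, hg2, hg3⟩ := h.pair_trans h1 hj'
  refine ⟨g * k, ?_, ?_, ?_⟩
  · calc g * k * r * (g * k)⁻¹ = g * (k * r * k⁻¹) * g⁻¹ := by group
      _ = r' := by rw [hk1, conj_eq_of_comm hg1]
  · calc g * k * a * (g * k)⁻¹ = g * (k * a * k⁻¹) * g⁻¹ := by group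
      _ = a' := by rw [hk2, conj_eq_of_comm hg2]
  · calc g * k * b * (g * k)⁻¹ = g * (k * b * k⁻¹) * g⁻¹ := by group
      _ = b' := hg3

/-- if one joined pair is critical, all are -/
theorem crit_of_jn (h : Hy T V z) (hm : Mid T V z c p r) (hj : Jn V p r c) {s : G} (hab : Jn V s a b) :
    Mid T V z a s b := by
  obtain ⟨g, h1, h2, h3⟩ := h.triple_trans (h.j1 _ _ _ hj) hab
  have := hm.conj g
  rwa [h1, h2, h3] at this

/-! ### `W_a⁰` -/

/-- products of two elements of one component -/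
theorem mul_cases (h : Hy T V z) (hj : Jn V a r x) (hj' : Jn V a r y) :
    x * y = 1 ∨ x * y = a ∨ x * y = r ∨ x * y = r * a ∨ Jn V a r (x * y) := by
  have ht := h.toTyN
  have hxx : x * x = 1 := sq_pt ht hj.2.1.symm
  by_cases h1 : y = x
  · left; rw [h1, hxx]
  by_cases h2 : y = x * a
  · right; left
    rw [h2, ← mul_assoc, hxx, one_mul]
  by_cases h3 : x * y = r
  · exact Or.inr (Or.inr (Or.inl h3))
  by_cases h4 : x * y = r * a
  · exact Or.inr (Or.inr (Or.inr (Or.inl h4)))
  right; right; right; right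
  have h5 : Jn V a x y := h.j2 _ _ _ _ (h.j1 _ _ _ hj) hj' h1 h2
  exact h.j2 _ _ _ _ hj (h5.self_mul ht) h3 h4

/-- `r x` for `x` in the component of `r` -/
theorem jn_mul (h : Hy T V z) (hj : Jn V a r x) : Jn V a r (r * x) := hj.self_mul h.toTyN

theorem jn_mul' (h : Hy T V z) (hj : Jn V a r x) : Jn V a r (x * a) := hj.shift_right h.toTyN

/-- the elements of `W_a⁰` -/
theorem mem_w0 (h : Hy T V z) (har : Col V a r) (hx : x ∈ w0 V a r) :
    x = 1 ∨ x = a ∨ x = r ∨ x = r * a ∨ Jn V a r x := by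
  have ht := h.toTyN
  have haw := h.fr.mem_ws_self har.left
  have hrw := h.fr.mem_ws_of_col har
  have haa : a * a = 1 := sq_pt ht har
  have hrr : r * r = 1 := sq_pt ht har.symm
  have car : a * r = r * a := comm_ws ht har.left haw hrw
  have hxw : ∀ x, Jn V a r x → x ∈ ws V a := fun x hx => h.fr.mem_ws_of_col hx.2.1
  -- the set is closed under multiplication by generators from the left
  have key : ∀ s x, (s = a ∨ s = r ∨ Jn V a r s) → (x = 1 ∨ x = a ∨ x = r ∨ x = r * a ∨ Jn V a r x) →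
      (s * x = 1 ∨ s * x = a ∨ s * x = r ∨ s * x = r * a ∨ Jn V a r (s * x)) := by
    intro s x hs hx
    rcases hs with rfl | rfl | hs
    · rcases hx with rfl | rfl | rfl | rfl | hx
      · simp
      · simp [haa]
      · simp [car]
      · right; right; left
        rw [← car, ← mul_assoc, haa, one_mul]
      · right; right; right; right
        have := h.jn_mul' hx
        rwa [comm_ws ht har.left (hxw x hx) haw] at this
    · rcases hx with rfl | rfl | rfl | rfl | hx
      · simp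
      · simp
      · simp [hrr]
      · right; left
        rw [← mul_assoc, hrr, one_mul]
      · right; right; right; right
        exact h.jn_mul hx
    · have hsw := hxw s hs
      rcases hx with rfl | rfl | rfl | rfl | hx
      · simp [hs]
      · right; right; right; right
        exact h.jn_mul' hs
      · right; right; right; right
        rw [comm_ws ht har.left hsw hrw]
        exact h.jn_mul hs
      · right; right; right; right
        rw [← mul_assoc, comm_ws ht har.left hsw hrw]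
        exact h.jn_mul' (h.jn_mul hs)
      · exact h.mul_cases hs hx
  unfold w0 at hx
  have hinv : ∀ s, (s = a ∨ s = r ∨ Jn V a r s) → s⁻¹ = s := by
    rintro s (rfl | rfl | hs)
    · exact inv_eq_self haa
    · exact inv_eq_self hrr
    · exact inv_pt ht hs.2.1.symm
  have hgen : ∀ s ∈ (({a, r} ∪ {x | Jn V a r x}) : Set G), s = a ∨ s = r ∨ Jn V a r s := by
    rintro s ((rfl | rfl) | hs)
    · exact Or.inl rfl
    · exact Or.inr (Or.inl rfl)
    · exact Or.inr (Or.inr hs)
  induction hx using closure_induction_left with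
  | one => exact Or.inl rfl
  | mul_left s hs y _ ih => exact key s y (hgen s hs) ih
  | inv_mul_cancel s hs y _ ih =>
    rw [hinv s (hgen s hs)]
    exact key s y (hgen s hs) ih

theorem w0_le (h : Hy T V z) (har : Col V a r) : w0 V a r ≤ ws V a := by
  refine (closure_le _).mpr ?_
  rintro x ((rfl | rfl) | hx)
  · exact h.fr.mem_ws_self har.left
  · exact h.fr.mem_ws_of_col har
  · exact h.fr.mem_ws_of_col hx.2.1

/-- `W_a⁰` does not depend on the point of the component -/
theorem w0_eq (h : Hy T V z) (hj : Jn V a r x) : w0 V a r = w0 V a x := by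
  have ht := h.toTyN
  have key : ∀ r x, Jn V a r x → w0 V a r ≤ w0 V a x := by
    intro r x hj
    refine (closure_le _).mpr ?_
    rintro y ((rfl | rfl) | hy)
    · exact a_mem_w0
    · exact jn_mem_w0 (h.j1 _ _ _ hj)
    · by_cases h1 : y = x
      · rw [h1]; exact r_mem_w0
      by_cases h2 : y = x * a
      · rw [h2]; exact mul_mem r_mem_w0 a_mem_w0
      exact jn_mem_w0 (h.j2 _ _ _ _ (h.j1 _ _ _ hj) hy h1 h2)
  exact le_antisymm (key _ _ hj) (key _ _ (h.j1 _ _ _ hj))

theorem w0_shift (h : Hy T V z) (har : Col V a r) (hne : r ≠ a) : w0 V a (r * a) = w0 V a r := by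
  have ht := h.toTyN
  have key : ∀ r, Col V a r → w0 V a (r * a) ≤ w0 V a r := by
    intro r har
    refine (closure_le _).mpr ?_
    rintro y ((rfl | rfl) | hy)
    · exact a_mem_w0
    · exact mul_mem r_mem_w0 a_mem_w0
    · exact jn_mem_w0 (Jn.unshift_left ht har hy)
  refine le_antisymm (key r har) ?_
  have := key (r * a) (col_mul_r h.fr har hne)
  rwa [mul_mul_cancel_pt ht har] at this

/-- `W_a = W_a⁰ C_{W_a}(U_r)` -/
theorem ws_eq (h : Hy T V z) (har : Col V a r) {w : G} (hw : w ∈ ws V a) :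
    ∃ w' ∈ w0 V a r, ∃ s ∈ ws V a, (∀ u ∈ uu V r, u * s = s * u) ∧ w = w' * s := by
  have ht := h.toTyN
  let A : Subgroup G :=
    { carrier := {w | ∃ w' ∈ w0 V a r, ∃ s ∈ ws V a, (∀ u ∈ uu V r, u * s = s * u) ∧ w = w' * s}
      mul_mem' := by
        rintro _ _ ⟨w', hw', s, hs, hsu, rfl⟩ ⟨w'', hw'', s', hs', hsu', rfl⟩
        refine ⟨w' * w'', mul_mem hw' hw'', s * s', mul_mem hs hs', fun u hu => comm_mul_of (hsu u hu) (hsu' u hu), ?_⟩
        have := comm_ws ht har.left hs (h.w0_le har hw'')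
        calc w' * s * (w'' * s') = w' * (s * w'') * s' := by group
          _ = w' * w'' * (s * s') := by rw [this]; group
      one_mem' := ⟨1, one_mem _, 1, one_mem _, fun u _ => by simp, by simp⟩
      inv_mem' := by
        rintro _ ⟨w', hw', s, hs, hsu, rfl⟩
        refine ⟨w'⁻¹, inv_mem hw', s⁻¹, inv_mem hs, fun u hu => comm_inv_of (hsu u hu), ?_⟩
        have := comm_ws ht har.left (inv_mem hs) (inv_mem (h.w0_le har hw'))
        calc (w' * s)⁻¹ = s⁻¹ * w'⁻¹ := by group
          _ = w'⁻¹ * s⁻¹ := this }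
  have hA : ws V a ≤ A := by
    refine ws_le fun L hL => ?_
    obtain ⟨⟨g, rfl⟩, ha⟩ := hL
    intro x hx
    by_cases h1 : x = 1
    · rw [h1]; exact A.one_mem
    have hcol : Col V a x := ⟨g, ha, hx, har.ne_one, h1⟩
    by_cases hj : Jn V a r x
    · exact ⟨x, jn_mem_w0 hj, 1, one_mem _, fun u _ => by simp, by simp⟩
    · exact ⟨1, one_mem _, x, h.fr.mem_ws_of_col hcol,
        fun u hu => cent_of_not_jn ht har.symm hcol hj hu, by simp⟩
  exact hA hw

end Hy

end Cfsg.Agent.Omega.NO3S.TypeN
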