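import Cfsg.Agent.Omega.NO3S.TypeN.Base

/-!
# NO-3S, `|V| = 4`, `n = 2`, TYPE N, `κ = 1` (helper60, bb #16001, section 2): components

* `KO T V z` : type N, a critical pair exists, `¬ K2 V`, `Jn` is symmetric;
* `KO.not_jn` (2.1): a critical pair is not joined;
* `Cc V r` : connected by joined points of `r`; `KO.com` (2.2): connected points commute;
* `KO.exists_jn`, `KO.jn_mul` : every point `a ~ r`, `a ≠ r` is joined to some point; `r a` has the same neighbours;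
* `cx V r a = C_{W_r}(U_b, b in the component of a)`; `KO.eq_of_cx` (2.3).
-/

set_option autoImplicit false
set_option linter.unusedSectionVars false

namespace Cfsg.Agent.Omega.NO3S.TypeN

open Subgroup Cfsg Cfsg.Agent.ZN Cfsg.Agent.MinSimple.Geo Cfsg.Agent.Omega.CaseL Cfsg.Agent.Omega.NO3S.TwoOne
  Cfsg.Agent.Omega.NO3S.Pt Cfsg.Agent.Omega.NO3S.TwoMid
open Cfsg.Agent.ZN.Block (conj_mem_of_normalizer conj_mem_of_normalizer' le_normalizer_of_forall
  mem_normalizer_of)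

universe u

variable {G : Type u} [Group G]

/-- the hypotheses of section 2 -/
structure KO (T V : Subgroup G) (z : G) : Prop extends TyN T V z where
  crit : ∃ a r b, Mid T V z a r b
  k1 : ¬ K2 V
  j1 : ∀ r a b, Jn V r a b → Jn V r b a

/-- all flags `(r, a)` with a point `a ≠ r` on the line are conjugate -/
theorem exists_flag_std {T V : Subgroup G} {z : G} (h : Fr T V z) {y : G} (hy : y ∈ V) (hy1 : y ≠ 1)
    (hyz : y ≠ z) {r a : G} (hra : Col V r a) (hne : a ≠ r) : ∃ g, g * z * g⁻¹ = r ∧ g * y * g⁻¹ = a := by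
  obtain ⟨g, hr, ha, hr1, ha1⟩ := hra
  obtain ⟨k, hk, hkz, hf⟩ := h.flag hr hr1
  rw [← hk] at ha
  have hv := mem_of_cj ha
  have hv1 : k⁻¹ * a * k ≠ 1 := fun e => ha1 (by
    have : a = k * (k⁻¹ * a * k) * k⁻¹ := by group
    rw [this, e]; group)
  have hvz : k⁻¹ * a * k ≠ z := fun e => hne (by
    have : a = k * (k⁻¹ * a * k) * k⁻¹ := by group
    rw [this, e, hkz])
  rcases h.ln.four h.ln.z_mem hy h.ln.z_ne hy1 (Ne.symm hyz) hv with e | e | e | e
  · exact absurd e hv1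
  · exact absurd e hvz
  · exact ⟨k, hkz, by rw [← e]; group⟩
  · obtain ⟨m, hm, hm1⟩ := h.exists_mover h.ln.z_mem h.ln.z_ne
    have e1 := h.move h.ln.z_mem h.ln.z_ne hy hy1 hyz hm hm1
    refine ⟨k * m, ?_, ?_⟩
    · calc k * m * z * (k * m)⁻¹ = k * (m * z * m⁻¹) * k⁻¹ := by group
        _ = r := by rw [conj_eq_of_comm (h.kq_p hm), hkz]
    · calc k * m * y * (k * m)⁻¹ = k * (m * y * m⁻¹) * k⁻¹ := by group
        _ = a := by rw [e1, ← e]; group

theorem exists_flag_conj {T V : Subgroup G} {z : G} (h : Fr T V z) {r a r' a' : G} (hra : Col V r a)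
    (hne : a ≠ r) (hra' : Col V r' a') (hne' : a' ≠ r') : ∃ g, g * r * g⁻¹ = r' ∧ g * a * g⁻¹ = a' := by
  obtain ⟨y, hy, hy1, hyz⟩ := h.ln.exists_y
  obtain ⟨g, h1, h2⟩ := exists_flag_std h hy hy1 hyz hra hne
  obtain ⟨k, h3, h4⟩ := exists_flag_std h hy hy1 hyz hra' hne'
  refine ⟨k * g⁻¹, ?_, ?_⟩
  · rw [← h1, ← h3]; group
  · rw [← h2, ← h4]; group

/-- `W_r` is generated by the points collinear with `r` -/
theorem ws_le_of_pts {V U : Subgroup G} {r : G} (hr1 : r ≠ 1) (h : ∀ b, Col V r b → b ∈ U) : ws V r ≤ U := by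
  refine ws_le ?_
  rintro L ⟨⟨g, rfl⟩, hr⟩ b hb
  by_cases hb1 : b = 1
  · rw [hb1]; exact one_mem _
  · exact h b ⟨g, hr, hb, hr1, hb1⟩

/-- connected at `r` -/
def Cc (V : Subgroup G) (r : G) : G → G → Prop := Relation.ReflTransGen (Jn V r)

section Cc

variable {V : Subgroup G} {r a b c : G}

theorem Cc.refl (V : Subgroup G) (r a : G) : Cc V r a a := Relation.ReflTransGen.refl

theorem Cc.single (h : Jn V r a b) : Cc V r a b := Relation.ReflTransGen.single h

theorem Cc.trans (h : Cc V r a b) (h' : Cc V r b c) : Cc V r a c := Relation.ReflTransGen.trans h h'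

theorem Cc.col (h : Cc V r a b) (ha : Col V r a) : Col V r b := by
  induction h with
  | refl => exact ha
  | tail _ h _ => exact h.2.1

theorem Cc.conj (h : Cc V r a b) (g : G) : Cc V (g * r * g⁻¹) (g * a * g⁻¹) (g * b * g⁻¹) := by
  induction h with
  | refl => exact .refl _ _ _
  | tail _ h ih => exact ih.trans (.single (h.conj g))

theorem Cc.of_conj (g : G) (h : Cc V (g * r * g⁻¹) (g * a * g⁻¹) (g * b * g⁻¹)) : Cc V r a b := by
  have := h.conj g⁻¹
  have e : ∀ x : G, g⁻¹ * (g * x * g⁻¹) * g⁻¹⁻¹ = x := fun x => by group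
  rwa [e, e, e] at this

end Cc

/-- `C_{W_r}(U_b, b in the component of a)` -/
def cx (V : Subgroup G) (r a : G) : Subgroup G where
  carrier := {x | x ∈ ws V r ∧ ∀ b, Cc V r a b → ∀ u ∈ uu V b, u * x = x * u}
  mul_mem' := by
    rintro x y ⟨hx, hx1⟩ ⟨hy, hy1⟩
    exact ⟨mul_mem hx hy, fun b hb u hu => comm_mul_of (hx1 b hb u hu) (hy1 b hb u hu)⟩
  one_mem' := ⟨one_mem _, fun b _ u _ => by simp⟩
  inv_mem' := by
    rintro x ⟨hx, hx1⟩
    exact ⟨inv_mem hx, fun b hb u hu => comm_inv_of (hx1 b hb u hu)⟩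

theorem mem_cx {V : Subgroup G} {r a x : G} :
    x ∈ cx V r a ↔ x ∈ ws V r ∧ ∀ b, Cc V r a b → ∀ u ∈ uu V b, u * x = x * u := Iff.rfl

theorem cx_le (V : Subgroup G) (r a : G) : cx V r a ≤ ws V r := fun _ h => h.1

theorem conj_mem_uu {V : Subgroup G} {b u : G} (g : G) (hu : u ∈ uu V b) : g * u * g⁻¹ ∈ uu V (g * b * g⁻¹) := by
  rw [← cj_uu]; exact conj_mem_cj hu

theorem conj_mem_cx {V : Subgroup G} {r a x : G} (g : G) (hx : x ∈ cx V r a) :
    g * x * g⁻¹ ∈ cx V (g * r * g⁻¹) (g * a * g⁻¹) := by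
  refine ⟨conj_mem_ws g hx.1, fun b hb u hu => ?_⟩
  have e : g * (g⁻¹ * b * g) * g⁻¹ = b := by group
  have h1 : Cc V r a (g⁻¹ * b * g) := Cc.of_conj g (by rwa [e])
  have h2 : g⁻¹ * u * g ∈ uu V (g⁻¹ * b * g) := by
    have := conj_mem_uu g⁻¹ hu
    rwa [inv_inv] at this
  have h3 := hx.2 _ h1 _ h2
  calc u * (g * x * g⁻¹) = g * ((g⁻¹ * u * g) * x) * g⁻¹ := by group
    _ = g * (x * (g⁻¹ * u * g)) * g⁻¹ := by rw [h3]
    _ = g * x * g⁻¹ * u := by group

theorem cj_cx (V : Subgroup G) (g r a : G) : cj g (cx V r a) = cx V (g * r * g⁻¹) (g * a * g⁻¹) := by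
  apply le_antisymm
  · intro x hx
    have := conj_mem_cx g (mem_of_cj hx)
    have e : g * (g⁻¹ * x * g) * g⁻¹ = x := by group
    rwa [e] at this
  · intro x hx
    rw [mem_cj]
    have := conj_mem_cx g⁻¹ hx
    have e : ∀ x : G, g⁻¹ * (g * x * g⁻¹) * g⁻¹⁻¹ = x := fun x => by group
    rw [e, e, inv_inv] at this
    exact this

namespace KO

variable {T V : Subgroup G} {z : G} {a b c p r : G} [Finite G]

/-- `κ = 1` -/
theorem one (h : KO T V z) (hpr : Col V p r) {u u' x x' : G} (hu : u ∈ uu V p) (hu' : u' ∈ uu V p)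
    (hx : x ∈ ws V r) (hx' : x' ∈ ws V r) (h1 : u * x * u⁻¹ ≠ x) (h2 : u' * x' * u'⁻¹ ≠ x') :
    u' * x * u'⁻¹ ≠ x := fun e => h.k1 ⟨p, r, hpr, u, hu, u', hu', x, hx, x', hx', h1, e, h2⟩

/-- (2.1) a critical pair is not joined at its middle -/
theorem not_jn (h : KO T V z) (hm : Mid T V z c p r) : ¬ Jn V p c r := by
  intro hj
  have hcp := hm.pr
  have hpr := hm.rq
  obtain ⟨-, -, u, hu, eu⟩ := id hj
  obtain ⟨-, -, w, hw, ew⟩ := h.j1 _ _ _ hj
  -- `(c, c r)` is critical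
  have huc : u * c * u⁻¹ = c := conj_eq_of_comm (uu_comm_ws h.toTyN hu (h.fr.mem_ws_self hcp.left))
  have h1 : ¬ Com V c (c * r) := by
    intro e
    apply hm.ne
    refine Com.of_conj u ?_
    rwa [huc, eu]
  have h1' : ∃ y ∈ ws V c, ∃ x ∈ ws V (c * r), y * x ≠ x * y := by
    by_contra hcon
    push Not at hcon
    exact h1 hcon
  obtain ⟨y, hy, x, hx, hyx⟩ := h1'
  have hrc : r * c = c * r := h.fr.ws_comm hcp.right r (h.fr.mem_ws_of_col hpr) c
    (h.fr.mem_ws_of_col hcp.symm)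
  have hwr : w * r * w⁻¹ = r := conj_eq_of_comm (uu_comm_ws h.toTyN hw (h.fr.mem_ws_self hpr.right))
  have hwc : w * c * w⁻¹ = c * r := by rw [ew, hrc]
  have hrr := h.fr.pt_sq hpr.right
  have hwcr : w * (c * r) * w⁻¹ = c := by
    calc w * (c * r) * w⁻¹ = (w * c * w⁻¹) * (w * r * w⁻¹) := by group
      _ = c * (r * r) := by rw [hwc, hwr, mul_assoc]
      _ = c := by rw [hrr, mul_one]
  have hx' : w * y * w⁻¹ ∈ ws V (c * r) := by
    have := conj_mem_ws w hy
    rwa [hwc] at this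
  have hy' : w * x * w⁻¹ ∈ ws V c := by
    have := conj_mem_ws w hx
    rwa [hwcr] at this
  have hd := h.toTyN.dihedral hcp hpr hm.ne_rq.symm hw hy
  have hyi : y⁻¹ = y := inv_eq_self (sq_ws h.toTyN hcp.left hy)
  have hyw : y * (w * y * w⁻¹) = (w * y * w⁻¹) * y := by
    rw [hyi] at hd
    calc y * (w * y * w⁻¹) = y * w * y * w⁻¹ := by group
      _ = y⁻¹ * (y * (y * w * y * w⁻¹)) := by group
      _ = y⁻¹ * (y * w * y * w⁻¹ * y) := by rw [hd]
      _ = (w * y * w⁻¹) * y := by group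
  have hcol : Col V p (c * r) := hj.col_mul h.toTyN
  refine h.one (p := p) (r := c * r) hcol (u := w * x * w⁻¹) (u' := y) (x := w * y * w⁻¹) (x' := x)
    (ws_le_uu hcp.symm hy') (ws_le_uu hcp.symm hy) hx' hx ?_ ?_ (conj_eq_of_comm hyw)
  · intro e
    apply hyx
    have := comm_of_conj_eq e
    calc y * x = w⁻¹ * ((w * y * w⁻¹) * (w * x * w⁻¹)) * w := by group
      _ = w⁻¹ * ((w * x * w⁻¹) * (w * y * w⁻¹)) * w := by rw [this]
      _ = x * y := by group
  · intro e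
    exact hyx (comm_of_conj_eq e)

theorem not_jn' (h : KO T V z) (hm : Mid T V z c p r) : ¬ Jn V p r c := fun e => h.not_jn hm (h.j1 _ _ _ e)

/-- (2.2): `W_a Z_r = W_{pa} Z_r` for joined `p`, `a` at `r` -/
theorem sup_mul (h : KO T V z) (hj : Jn V r p a) :
    ws V a ≤ ws V (p * a) ⊔ zr V r ∧ ws V (p * a) ≤ ws V a ⊔ zr V r := by
  obtain ⟨c, hpc, w, hw, hne⟩ := exists_ws V hj.exists_ne
  have hpr := hj.1
  have hra := hj.2.1
  have haW : a ∈ ws V r := h.fr.mem_ws_of_col hra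
  have hm := mid_of_move h.toTyN hpc.symm hpr hw haW hne
  have hcen : ∀ u ∈ uu V r, u * w * u⁻¹ * w⁻¹ ∈ zr V r := fun u hu => cent_uu h.toTyN hm (h.not_jn' hm) hu hw
  have hwa : w * a * w⁻¹ = p * a := (act h.toTyN hpr (ws_le_uu hpc hw) haW).resolve_left hne
  have hle : ws V a ≤ uu V r := ws_le_uu hra
  have key : ∀ x ∈ ws V a, w * x * w⁻¹ ∈ ws V (p * a) ∧ x⁻¹ * (w * x * w⁻¹) ∈ zr V r := by
    intro x hx
    constructor
    · have := conj_mem_ws w hx
      rwa [hwa] at this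
    · have h1 := hcen _ (inv_mem (hle hx))
      have e : x⁻¹ * w * x⁻¹⁻¹ * w⁻¹ = x⁻¹ * (w * x * w⁻¹) := by group
      rwa [e] at h1
  constructor
  · intro x hx
    obtain ⟨h1, h2⟩ := key x hx
    have e : x = (w * x * w⁻¹) * (x⁻¹ * (w * x * w⁻¹))⁻¹ := by group
    rw [e]
    exact mul_mem (le_sup_left (a := ws V (p * a)) h1) (le_sup_right (b := zr V r) (inv_mem h2))
  · intro x hx
    have h3 : w⁻¹ * x * w ∈ ws V a := by
      have := conj_mem_ws w⁻¹ hx
      rw [← hwa] at this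
      have e : w⁻¹ * (w * a * w⁻¹) * w⁻¹⁻¹ = a := by group
      rwa [e, inv_inv] at this
    obtain ⟨-, h2⟩ := key _ h3
    have e : x = (w⁻¹ * x * w) * ((w⁻¹ * x * w)⁻¹ * (w * (w⁻¹ * x * w) * w⁻¹)) := by group
    rw [e]
    exact mul_mem (le_sup_left (a := ws V a) h3) (le_sup_right (b := zr V r) h2)

theorem sup_jn (h : KO T V z) (hj : Jn V r p a) : ws V p ≤ ws V a ⊔ zr V r := by
  have h1 := (h.sup_mul hj).2
  have h2 := (h.sup_mul (h.j1 _ _ _ hj)).1
  have e : a * p = p * a := h.fr.ws_comm hj.1.right a (h.fr.mem_ws_of_col hj.2.1) p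
    (h.fr.mem_ws_of_col hj.1.symm)
  rw [e] at h2
  exact h2.trans (sup_le h1 le_sup_right)

theorem cc_symm (h : KO T V z) (hc : Cc V r a b) : Cc V r b a := by
  induction hc with
  | refl => exact .refl _ _ _
  | tail _ h' ih => exact (Cc.single (h.j1 _ _ _ h')).trans ih

theorem cc_ne (h : KO T V z) (hc : Cc V r a b) (hne : a ≠ r) : b ≠ r := by
  induction hc with
  | refl => exact hne
  | tail _ h' _ => exact h'.ne_right h.toTyN

theorem cc_sup (h : KO T V z) (hc : Cc V r a b) : ws V a ≤ ws V b ⊔ zr V r := by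
  induction hc with
  | refl => exact le_sup_left
  | tail _ h' ih => exact ih.trans (sup_le (h.sup_jn h') le_sup_right)

/-- (2.2): connected points commute -/
theorem com (h : KO T V z) (hra : Col V r a) (hc : Cc V r a b) : Com V a b := by
  have hrb := hc.col hra
  intro x hx y hy
  have h1 : ws V b ⊔ zr V r ≤ centralizer ({y} : Set G) := by
    refine sup_le ?_ ?_
    · intro w hw
      rw [mem_centralizer_singleton_iff]
      exact h.fr.ws_comm hrb.right w hw y hy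
    · intro w hw
      rw [mem_centralizer_singleton_iff]
      exact (mem_centralizer_iff.mp hw.2 y (ws_le_uu hrb hy)).symm
  exact mem_centralizer_singleton_iff.mp (h1 (h.cc_sup hc hx))

/-! ### existence of joined points -/

/-- every point `a ~ r`, `a ≠ r`, is joined to some point -/
theorem exists_jn (h : KO T V z) (hra : Col V r a) (hne : a ≠ r) : ∃ b, Jn V r a b := by
  obtain ⟨a₀, r₀, b₀, hm⟩ := h.crit
  have h1 : ∃ w ∈ ws V a₀, ∃ x ∈ ws V b₀, w * x ≠ x * w := by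
    by_contra hcon
    push Not at hcon
    exact hm.ne hcon
  obtain ⟨w, hw, x, hx, hwx⟩ := h1
  have hwu : w ∈ uu V r₀ := ws_le_uu hm.pr.symm hw
  have h2 : ∃ b', Col V b₀ b' ∧ w * b' * w⁻¹ ≠ b' := by
    by_contra hcon
    push Not at hcon
    have h3 : ws V b₀ ≤ centralizer ({w} : Set G) := by
      refine ws_le_of_pts hm.rq.symm.ne_one fun b hb => ?_
      rw [mem_centralizer_singleton_iff]
      exact (comm_of_conj_eq (hcon b hb)).symm
    exact hwx (mem_centralizer_singleton_iff.mp (h3 hx)).symm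
  obtain ⟨b', hb', hne'⟩ := h2
  have h3 : Jn V b₀ r₀ b' := Jn.of_ne h.toTyN hm.rq hb' hwu hne'
  obtain ⟨g, e1, e2⟩ := exists_flag_conj h.fr hm.rq.symm hm.ne_rq hra hne
  have h4 := h3.conj g
  rw [e1, e2] at h4
  exact ⟨_, h4⟩

/-- `r a` is joined to the points which are joined to `a` -/
theorem jn_mul (h : KO T V z) (hj : Jn V r a b) : Jn V r (r * a) b := by
  have hne := hj.ne_left h.toTyN
  obtain ⟨g, hr, ha, hr1, ha1⟩ := id hj.1.symm
  obtain ⟨k, hk, -, hmv⟩ := h.fr.mover_cj hr hr1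
  have e1 := hmv a ha ha1 hne
  have ekr : k * r * k⁻¹ = r := conj_eq_of_comm (mem_centralizer_singleton_iff.mp hk.1)
  have h1 := hj.conj k
  rw [ekr, e1] at h1
  rcases h.fr.kq_cases' hj.2.1.left hk (h.fr.mem_ws_of_col hj.2.1) with e | e
  · rwa [e] at h1
  · rw [e] at h1
    obtain ⟨h2, -, u, hu, eu⟩ := h1
    refine Jn.of_ne h.toTyN h2 hj.2.1 hu fun e' => h2.ne_one ?_
    have hur : u * r * u⁻¹ = r := conj_eq_of_comm (uu_comm_ws h.toTyN hu (h.fr.mem_ws_of_col h2))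
    have e3 : u * (r * b) * u⁻¹ = r * b := by
      calc u * (r * b) * u⁻¹ = (u * r * u⁻¹) * (u * b * u⁻¹) := by group
        _ = r * b := by rw [hur, e']
    rw [e3] at eu
    simpa using eu

theorem cc_mul (h : KO T V z) (hra : Col V r a) (hne : a ≠ r) : Cc V r a (r * a) := by
  obtain ⟨b, hb⟩ := h.exists_jn hra hne
  exact (Cc.single hb).trans (.single (h.j1 _ _ _ (h.jn_mul hb)))

theorem mem_cx_of_not (h : KO T V z) (hrb : Col V r b) (hra : Col V r a) (hn : ¬ Cc V r a b) : b ∈ cx V r a := by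
  refine ⟨h.fr.mem_ws_of_col hrb, fun b' hb' u hu => ?_⟩
  refine cent_of_not_jn h.toTyN (hb'.col hra).symm hrb (fun e => hn (hb'.trans (.single e))) hu

/-- `r ∈ cx` -/
theorem r_mem_cx (h : KO T V z) (hra : Col V r a) : r ∈ cx V r a :=
  ⟨h.fr.mem_ws_self hra.left, fun _ hb' _ hu => uu_comm_ws h.toTyN hu (h.fr.mem_ws_of_col (hb'.col hra).symm)⟩

/-- `a ∉ cx V r a` -/
theorem not_mem_cx (h : KO T V z) (hra : Col V r a) (hne : a ≠ r) : a ∉ cx V r a := by
  intro ha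
  obtain ⟨b, hb⟩ := h.exists_jn hra hne
  obtain ⟨u, hu, hne'⟩ := (h.j1 _ _ _ hb).exists_ne
  exact hne' (conj_eq_of_comm (ha.2 b (.single hb) u hu))

theorem cx_eq (h : KO T V z) (hc : Cc V r a b) : cx V r a = cx V r b := by
  ext x
  exact ⟨fun hx => ⟨hx.1, fun b' hb' => hx.2 b' (hc.trans hb')⟩,
    fun hx => ⟨hx.1, fun b' hb' => hx.2 b' ((h.cc_symm hc).trans hb')⟩⟩

end KO

end Cfsg.Agent.Omega.NO3S.TypeN
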