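import Cfsg.Agent.Omega.NO3S.TypeN.KapOneA

/-!
# NO-3S, `|V| = 4`, `n = 2`, TYPE N, `κ = 1` (helper60, bb #16001, section 2): (2.3)

* `KO.eq_of_cx`: connected points `a`, `c` of `r` with `a c ∈ cx V r a` are `c = a` or `c = r a`.
-/

set_option autoImplicit false
set_option linter.unusedSectionVars false

namespace Cfsg.Agent.Omega.NO3S.TypeN

open Subgroup Cfsg Cfsg.Agent.ZN Cfsg.Agent.MinSimple.Geo Cfsg.Agent.Omega.CaseL Cfsg.Agent.Omega.NO3S.TwoOne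
  Cfsg.Agent.Omega.NO3S.Pt Cfsg.Agent.Omega.NO3S.TwoMid
open Cfsg.Agent.ZN.Block (conj_mem_of_normalizer conj_mem_of_normalizer' le_normalizer_of_forall
  mem_normalizer_of)

universe u

variable {G : Type u} [Group G]

/-- `R₀ = C_{W_r}(U_b, b ~ r)` -/
def rz (V : Subgroup G) (r : G) : Subgroup G where
  carrier := {x | x ∈ ws V r ∧ ∀ b, Col V r b → ∀ u ∈ uu V b, u * x = x * u}
  mul_mem' := by
    rintro x y ⟨hx, hx1⟩ ⟨hy, hy1⟩
    exact ⟨mul_mem hx hy, fun b hb u hu => comm_mul_of (hx1 b hb u hu) (hy1 b hb u hu)⟩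
  one_mem' := ⟨one_mem _, fun b _ u _ => by simp⟩
  inv_mem' := by
    rintro x ⟨hx, hx1⟩
    exact ⟨inv_mem hx, fun b hb u hu => comm_inv_of (hx1 b hb u hu)⟩

theorem conj_mem_rz {V : Subgroup G} {r x : G} (g : G) (hx : x ∈ rz V r) : g * x * g⁻¹ ∈ rz V (g * r * g⁻¹) := by
  refine ⟨conj_mem_ws g hx.1, fun b hb u hu => ?_⟩
  have h1 : Col V r (g⁻¹ * b * g) := by
    have := hb.conj g⁻¹
    have e : g⁻¹ * (g * r * g⁻¹) * g⁻¹⁻¹ = r := by group
    rwa [e, inv_inv] at this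
  have h2 : g⁻¹ * u * g ∈ uu V (g⁻¹ * b * g) := by
    have := conj_mem_uu g⁻¹ hu
    rwa [inv_inv] at this
  have h3 := hx.2 _ h1 _ h2
  calc u * (g * x * g⁻¹) = g * ((g⁻¹ * u * g) * x) * g⁻¹ := by group
    _ = g * (x * (g⁻¹ * u * g)) * g⁻¹ := by rw [h3]
    _ = g * x * g⁻¹ * u := by group

/-- elements of `C(r)` normalise `R₀` -/
theorem conj_mem_rz' {V : Subgroup G} {r x g : G} (hg : g ∈ centralizer ({r} : Set G)) (hx : x ∈ rz V r) :
    g * x * g⁻¹ ∈ rz V r := by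
  have := conj_mem_rz g hx
  rwa [conj_eq_of_comm (mem_centralizer_singleton_iff.mp hg)] at this

theorem conj_mem_ws' {V : Subgroup G} {r x g : G} (hg : g ∈ centralizer ({r} : Set G)) (hx : x ∈ ws V r) :
    g * x * g⁻¹ ∈ ws V r := by
  have := conj_mem_ws g hx
  rwa [conj_eq_of_comm (mem_centralizer_singleton_iff.mp hg)] at this

/-- the elements of `C(r)` with `[g, W_r] ≤ R₀`, `[g, R₀] = 1` -/
def nz (V : Subgroup G) (r : G) : Subgroup G where
  carrier := {g | g ∈ centralizer ({r} : Set G) ∧ (∀ x ∈ rz V r, g * x = x * g) ∧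
    ∀ x ∈ ws V r, g * x * g⁻¹ * x⁻¹ ∈ rz V r}
  mul_mem' := by
    rintro g k ⟨hg, hg1, hg2⟩ ⟨hk, hk1, hk2⟩
    refine ⟨mul_mem hg hk, fun x hx => mul_comm_of (hg1 x hx) (hk1 x hx), fun x hx => ?_⟩
    have h1 := hk2 x hx
    have h2 := conj_eq_of_comm (hg1 _ h1)
    have e : g * k * x * (g * k)⁻¹ * x⁻¹ = (g * (k * x * k⁻¹ * x⁻¹) * g⁻¹) * (g * x * g⁻¹ * x⁻¹) := by group
    rw [e, h2]
    exact mul_mem h1 (hg2 x hx)
  one_mem' := ⟨one_mem _, fun x _ => by simp, fun x _ => by simp⟩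
  inv_mem' := by
    rintro g ⟨hg, hg1, hg2⟩
    refine ⟨inv_mem hg, fun x hx => inv_comm_of (hg1 x hx), fun x hx => ?_⟩
    have h1 := hg2 _ (conj_mem_ws' (inv_mem hg) hx)
    have e : g⁻¹ * x * g⁻¹⁻¹ * x⁻¹ = (g * (g⁻¹ * x * g⁻¹⁻¹) * g⁻¹ * (g⁻¹ * x * g⁻¹⁻¹)⁻¹)⁻¹ := by group
    rw [e]
    exact inv_mem h1

theorem conj_mem_nz {V : Subgroup G} {r g k : G} (hg : g ∈ centralizer ({r} : Set G)) (hk : k ∈ nz V r) :
    g * k * g⁻¹ ∈ nz V r := by
  obtain ⟨hk, hk1, hk2⟩ := hk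
  have hgi := inv_mem hg
  refine ⟨mul_mem (mul_mem hg hk) (inv_mem hg), fun x hx => ?_, fun x hx => ?_⟩
  · have h1 := hk1 _ (conj_mem_rz' hgi hx)
    rw [inv_inv] at h1
    calc g * k * g⁻¹ * x = g * (k * (g⁻¹ * x * g)) * g⁻¹ := by group
      _ = g * ((g⁻¹ * x * g) * k) * g⁻¹ := by rw [h1]
      _ = x * (g * k * g⁻¹) := by group
  · have h1 := hk2 _ (conj_mem_ws' hgi hx)
    have h2 := conj_mem_rz' hg h1
    have e : g * k * g⁻¹ * x * (g * k * g⁻¹)⁻¹ * x⁻¹ =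
        g * (k * (g⁻¹ * x * g⁻¹⁻¹) * k⁻¹ * (g⁻¹ * x * g⁻¹⁻¹)⁻¹) * g⁻¹ := by group
    rw [e]
    exact h2

/-- elements of `C(r)` centralising `W_r` are in `K_r` -/
theorem mem_kq_of_cent {V : Subgroup G} {r g : G} (hg : g ∈ centralizer ({r} : Set G))
    (h : ∀ x ∈ ws V r, g * x = x * g) : g ∈ kq V r := by
  refine ⟨hg, fun x hx => ?_, fun x hx => ?_⟩
  · rw [conj_eq_of_comm (h x hx), mul_inv_cancel]
    exact one_mem _
  · have e : g⁻¹ * x * g * x⁻¹ = 1 := by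
      calc g⁻¹ * x * g * x⁻¹ = g⁻¹ * (x * g) * x⁻¹ := by group
        _ = g⁻¹ * (g * x) * x⁻¹ := by rw [h x hx]
        _ = 1 := by group
    rw [e]
    exact one_mem _

namespace KO

variable {T V : Subgroup G} {z : G} {a b c p r : G} [Finite G]

/-- (O) for `nz` -/
theorem nz_le (h : KO T V z) (hr : Col V r r) : nz V r ≤ kq V r := by
  refine le_kq_pt h.fr hr (fun g hg => hg.1) ?_ ?_
  · exact le_normalizer_of_forall fun g hg k hk => conj_mem_nz hg hk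
  · intro g hg
    refine ⟨1, ?_⟩
    rw [pow_one, pow_two]
    refine mem_kq_of_cent (mul_mem hg.1 hg.1) fun x hx => comm_of_conj_eq ?_
    have h1 := hg.2.2 x hx
    have h2 := conj_eq_of_comm (hg.2.1 _ h1)
    have h3 := sq_ws h.toTyN hr h1.1
    calc g * g * x * (g * g)⁻¹ = (g * (g * x * g⁻¹ * x⁻¹) * g⁻¹) * (g * x * g⁻¹ * x⁻¹) * x := by group
      _ = (g * x * g⁻¹ * x⁻¹) * (g * x * g⁻¹ * x⁻¹) * x := by rw [h2]
      _ = x := by rw [h3, one_mul]

/-- transfer of joinedness -/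
theorem jn_of_mul (h : KO T V z) (hra : Col V r a) (hc : Cc V r a c) (he : a * c ∈ cx V r a)
    (hj : Jn V r a b) : Jn V r c b := by
  have hb := h.j1 _ _ _ hj
  have hrc := hc.col hra
  have haa := h.fr.pt_sq hra.right
  obtain ⟨u, hu, hne⟩ := hb.exists_ne
  refine h.j1 _ _ _ (Jn.of_ne h.toTyN hj.2.1.symm hrc hu fun e => hne ?_)
  have h1 := conj_eq_of_comm (he.2 b (.single hj) u hu)
  have e2 : a = (a * c) * c⁻¹ := by group
  calc u * a * u⁻¹ = (u * (a * c) * u⁻¹) * (u * c * u⁻¹)⁻¹ := by group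
    _ = (a * c) * c⁻¹ := by rw [h1, e]
    _ = a := by group

/-- (2.3) -/
theorem eq_of_cx (h : KO T V z) (hra : Col V r a) (hne : a ≠ r) (hc : Cc V r a c) (he : a * c ∈ cx V r a) :
    c = a ∨ c = r * a := by
  have hrc := hc.col hra
  have haa := h.fr.pt_sq hra.right
  have hcc := h.fr.pt_sq hrc.right
  have haW := h.fr.mem_ws_of_col hra
  have hcW := h.fr.mem_ws_of_col hrc
  have hac : a * c = c * a := h.fr.ws_comm hra.left a haW c hcW
  have he' : c * a ∈ cx V r c := by rw [← hac, ← h.cx_eq hc]; exact he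
  have hca := h.cc_symm hc
  -- `a c ∈ R₀`
  have heR : a * c ∈ rz V r := by
    refine ⟨mul_mem haW hcW, fun b hb u hu => ?_⟩
    by_cases hab : Cc V r a b
    · exact he.2 b hab u hu
    · refine comm_mul_of ?_ ?_
      · exact cent_of_not_jn h.toTyN hb.symm hra (fun e => hab (h.cc_symm (.single e))) hu
      · exact cent_of_not_jn h.toTyN hb.symm hrc (fun e => hab (hc.trans (h.cc_symm (.single e)))) hu
  obtain ⟨b, hjb⟩ := h.exists_jn hra hne
  have hjc := h.jn_of_mul hra hc he hjb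
  obtain ⟨g, hg, hgb⟩ := hjb.exists_ne
  obtain ⟨k, hk, hkb⟩ := hjc.exists_ne
  have hbW := h.fr.mem_ws_of_col hjb.2.1
  -- `U_a` fixes `c`
  have hnac : ¬ Jn V r a c := by
    intro hj
    obtain ⟨u, hu, hne'⟩ := (h.j1 _ _ _ hj).exists_ne
    apply hne'
    have h1 := conj_eq_of_comm (he.2 c hc u hu)
    have h2 := conj_eq_of_comm (uu_comm_ws h.toTyN hu (h.fr.mem_ws_self hrc.right))
    calc u * a * u⁻¹ = (u * (a * c) * u⁻¹) * (u * c * u⁻¹)⁻¹ := by group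
      _ = a := by rw [h1, h2]; group
  have hgc : g * c * g⁻¹ = c := conj_eq_of_comm (cent_of_not_jn h.toTyN hra.symm hrc hnac hg)
  have hgC : g ∈ centralizer ({r} : Set G) := by
    rw [mem_centralizer_singleton_iff]
    exact uu_comm_ws h.toTyN hg (h.fr.mem_ws_of_col hra.symm)
  have hkC : k ∈ centralizer ({r} : Set G) := by
    rw [mem_centralizer_singleton_iff]
    exact uu_comm_ws h.toTyN hk (h.fr.mem_ws_of_col hrc.symm)
  have hgkC := mul_mem hgC hkC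
  -- the action on the points
  have key : ∀ b₁, Col V r b₁ → g * k * b₁ * (g * k)⁻¹ = b₁ ∨ g * k * b₁ * (g * k)⁻¹ = a * c * b₁ := by
    intro b₁ hb₁
    have hb₁W := h.fr.mem_ws_of_col hb₁
    by_cases hj : Jn V r a b₁
    · right
      have hj' := h.jn_of_mul hra hc he hj
      obtain ⟨g', hg', hne'⟩ := hj.exists_ne
      obtain ⟨k', hk', hne''⟩ := hj'.exists_ne
      have h1 := (act h.toTyN hra.symm hg hb₁W).resolve_left (h.one hra.symm hg' hg hb₁W hbW hne' hgb)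
      have h2 := (act h.toTyN hrc.symm hk hb₁W).resolve_left (h.one hrc.symm hk' hk hb₁W hbW hne'' hkb)
      calc g * k * b₁ * (g * k)⁻¹ = g * (k * b₁ * k⁻¹) * g⁻¹ := by group
        _ = (g * c * g⁻¹) * (g * b₁ * g⁻¹) := by rw [h2]; group
        _ = c * (a * b₁) := by rw [hgc, h1]
        _ = a * c * b₁ := by rw [← mul_assoc, hac]
    · left
      have hj' : ¬ Jn V r c b₁ := fun e => hj (h.jn_of_mul hrc hca he' e)
      have h1 := conj_eq_of_comm (cent_of_not_jn h.toTyN hra.symm hb₁ hj hg)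
      have h2 := conj_eq_of_comm (cent_of_not_jn h.toTyN hrc.symm hb₁ hj' hk)
      calc g * k * b₁ * (g * k)⁻¹ = g * (k * b₁ * k⁻¹) * g⁻¹ := by group
        _ = b₁ := by rw [h2, h1]
  -- `g k ∈ nz`
  have hmem : g * k ∈ nz V r := by
    refine ⟨hgkC, fun x hx => mul_comm_of (hx.2 a hra g hg) (hx.2 c hrc k hk), ?_⟩
    let A : Subgroup G :=
      { carrier := {x | x ∈ ws V r ∧ g * k * x * (g * k)⁻¹ * x⁻¹ ∈ rz V r}
        mul_mem' := by
          rintro x y ⟨hx, hx1⟩ ⟨hy, hy1⟩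
          refine ⟨mul_mem hx hy, ?_⟩
          have e : g * k * (x * y) * (g * k)⁻¹ * (x * y)⁻¹ =
              (g * k * x * (g * k)⁻¹ * x⁻¹) * (x * (g * k * y * (g * k)⁻¹ * y⁻¹) * x⁻¹) := by group
          have e2 : x * (g * k * y * (g * k)⁻¹ * y⁻¹) * x⁻¹ = g * k * y * (g * k)⁻¹ * y⁻¹ :=
            conj_eq_of_comm (h.fr.ws_comm hra.left x hx _ hy1.1)
          rw [e, e2]
          exact mul_mem hx1 hy1
        one_mem' := ⟨one_mem _, by simp⟩
        inv_mem' := by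
          rintro x ⟨hx, hx1⟩
          refine ⟨inv_mem hx, ?_⟩
          have e : g * k * x⁻¹ * (g * k)⁻¹ * x⁻¹⁻¹ = x⁻¹ * (g * k * x * (g * k)⁻¹ * x⁻¹)⁻¹ * x⁻¹⁻¹ := by group
          have e2 : x⁻¹ * (g * k * x * (g * k)⁻¹ * x⁻¹)⁻¹ * x⁻¹⁻¹ = (g * k * x * (g * k)⁻¹ * x⁻¹)⁻¹ :=
            conj_eq_of_comm (h.fr.ws_comm hra.left x⁻¹ (inv_mem hx) _ (inv_mem hx1.1))
          rw [e, e2]
          exact inv_mem hx1 }
    have hA : ws V r ≤ A := by
      refine ws_le_of_pts hra.ne_one fun b₁ hb₁ => ⟨h.fr.mem_ws_of_col hb₁, ?_⟩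
      rcases key b₁ hb₁ with e | e
      · rw [e, mul_inv_cancel]; exact one_mem _
      · rw [e, mul_inv_cancel_right]; exact heR
    exact fun x hx => (hA hx).2
  have hkq := h.nz_le hra.left hmem
  have h1 : g * b * g⁻¹ = a * b := (act h.toTyN hra.symm hg hbW).resolve_left hgb
  have h2 : k * b * k⁻¹ = c * b := (act h.toTyN hrc.symm hk hbW).resolve_left hkb
  have h3 : g * k * b * (g * k)⁻¹ * b⁻¹ = a * c := by
    calc g * k * b * (g * k)⁻¹ * b⁻¹ = g * (k * b * k⁻¹) * g⁻¹ * b⁻¹ := by group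
      _ = (g * c * g⁻¹) * (g * b * g⁻¹) * b⁻¹ := by rw [h2]; group
      _ = c * a := by rw [hgc, h1]; group
      _ = a * c := hac.symm
  have h4 := hkq.2.1 b hbW
  rw [h3] at h4
  rcases (mem_zpowers_iff_of_mul_self (h.fr.pt_sq hra.left)).mp h4 with e | e
  · left
    calc c = a * (a * c) := by rw [← mul_assoc, haa, one_mul]
      _ = a := by rw [e, mul_one]
  · right
    calc c = a * (a * c) := by rw [← mul_assoc, haa, one_mul]
      _ = a * r := by rw [e]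
      _ = r * a := h.fr.ws_comm hra.left a haW r (h.fr.mem_ws_self hra.left)

end KO

end Cfsg.Agent.Omega.NO3S.TypeN
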